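import Cfsg.Agent.H439.Der.Tools
import Cfsg.Agent.H947.El.PsuC
import Cfsg.Agent.H794.PsuNotAb

/-!
# `Row` for `PSU₃(q)`, `q = 3, 4, 5, 8`: common tools (helper322, task 2401)
-/

set_option autoImplicit false

namespace Cfsg.Agent.H322.Der

open Cfsg Cfsg.Geo Cfsg.Agent.H439.Der Cfsg.Agent.H918 Module Subgroup
  Cfsg.Agent.ClassicalGeometry.PSUAutBasic Cfsg.Agent.LieClassical.HermSiegel
  Cfsg.Agent.LieClassical.HermBasic Cfsg.Agent.LieClassical.SUBasic
open scoped MatrixGroups Matrix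

section Group

variable {T : Type*} [Group T] [Finite T] {M : Subgroup T}

theorem two_of_prime_and {r : ℕ} (hr : r.Prime) (h1 : r ∣ Nat.card T) (h2 : ¬ r ∣ Nat.card M) {y : T}
    (hy : ¬ r ∣ orderOf y) (hyM : ∀ φ : T ≃* T, φ y ∉ M) : Two T M := by
  have := Fact.mk hr
  obtain ⟨x, hx⟩ := exists_prime_orderOf_dvd_card' r h1
  refine ⟨x, y, not_mem_of_dvd h2 (by rw [hx]), hyM, fun φ hφ => hy ?_⟩
  rw [← hφ, Cfsg.Agent.H938.Sax.orderOf_mulEquiv, hx]

theorem exists_missing {p : ℕ} (hp : p.Prime) (hM : ¬ p ^ 2 ∣ Nat.card M) {x y : T} (hx : orderOf x = p)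
    (hy : orderOf y = p)
    (hne : Nat.card (centralizer ({x} : Set T)) ≠ Nat.card (centralizer ({y} : Set T))) :
    ∃ z : T, orderOf z = p ∧ ∀ φ : T ≃* T, φ z ∉ M := by
  have : Fact p.Prime := ⟨hp⟩
  by_contra hcon
  push Not at hcon
  obtain ⟨φ, hφ⟩ := hcon x hx
  obtain ⟨ψ, hψ⟩ := hcon y hy
  apply hne
  rw [← Cfsg.Agent.H947.El.card_centralizer_aut φ x, ← Cfsg.Agent.H947.El.card_centralizer_aut ψ y]
  have hsyl : ∀ z : M, orderOf z = p → ∃ P : Sylow p M, (P : Subgroup M) = zpowers z := by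
    intro z hz
    have h1 : IsPGroup p (zpowers z) := IsPGroup.of_card (n := 1) (by rw [Nat.card_zpowers, hz, pow_one])
    obtain ⟨P, hP⟩ := h1.exists_le_sylow
    refine ⟨P, (Subgroup.eq_of_le_of_card_ge hP ?_).symm⟩
    rw [Nat.card_zpowers, hz, P.card_eq_multiplicity]
    have h2 : (Nat.card M).factorization p ≤ 1 := by
      by_contra h2
      exact hM ((hp.pow_dvd_iff_le_factorization Nat.card_pos.ne').2 (by omega))
    calc p ^ (Nat.card M).factorization p ≤ p ^ 1 := Nat.pow_le_pow_right hp.pos h2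
      _ = p := pow_one p
  have hxo : orderOf (⟨φ x, hφ⟩ : M) = p := by rw [Subgroup.orderOf_mk, MulEquiv.orderOf_eq, hx]
  have hyo : orderOf (⟨ψ y, hψ⟩ : M) = p := by rw [Subgroup.orderOf_mk, MulEquiv.orderOf_eq, hy]
  obtain ⟨P, hP⟩ := hsyl _ hxo
  obtain ⟨Q, hQ⟩ := hsyl _ hyo
  obtain ⟨g, hg⟩ := MulAction.exists_smul_eq M P Q
  have h1 : zpowers ((g : T) * φ x * (g : T)⁻¹) = zpowers (ψ y) := by
    have h2 : (P : Subgroup M).map (MulAut.conj g).toMonoidHom = (Q : Subgroup M) := by rw [← hg]; rfl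
    rw [hP, hQ, MonoidHom.map_zpowers] at h2
    have h3 := congrArg (fun K : Subgroup M => K.map M.subtype) h2
    simp only [MonoidHom.map_zpowers] at h3
    exact h3
  rw [← Cfsg.Agent.H947.El.centralizer_eq_of_zpowers h1]
  exact (Cfsg.Agent.H947.El.card_centralizer_aut (MulAut.conj (g : T)) (φ x)).symm

/-- a noncommutative `2`-group contains an element of order `4` -/
theorem exists_orderOf_four {P : Subgroup T} (hP : IsPGroup 2 P) {a b : T} (ha : a ∈ P) (hb : b ∈ P)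
    (hab : a * b ≠ b * a) : ∃ x : T, orderOf x = 4 := by
  by_contra hcon
  push Not at hcon
  have hsq : ∀ x ∈ P, x * x = 1 := by
    intro x hx
    obtain ⟨k, hk⟩ := (IsPGroup.iff_orderOf.1 hP) ⟨x, hx⟩
    rw [Subgroup.orderOf_mk] at hk
    by_contra hne
    have h2 : 2 ≤ k := by
      by_contra hlt
      push Not at hlt
      apply hne
      rw [← pow_two, ← orderOf_dvd_iff_pow_eq_one, hk]
      calc 2 ^ k ∣ 2 ^ 1 := pow_dvd_pow 2 (by omega)
        _ = 2 := pow_one 2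
    apply hcon (x ^ 2 ^ (k - 2))
    rw [orderOf_pow, hk]
    obtain ⟨l, rfl⟩ := Nat.exists_eq_add_of_le h2
    rw [Nat.add_sub_cancel_left, Nat.gcd_eq_right (pow_dvd_pow 2 (by omega)), pow_add]
    exact Nat.mul_div_cancel _ (by positivity)
  apply hab
  have h1 := hsq _ (P.mul_mem ha hb)
  have h2 := hsq a ha
  have h3 := hsq b hb
  calc a * b = a * b * (b * a) * (b * a)⁻¹ := by group
    _ = (a * (b * b) * a) * (b * a)⁻¹ := by group
    _ = (b * a)⁻¹ := by rw [h3, mul_one, h2, one_mul]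
    _ = b * a := by
      rw [inv_eq_iff_mul_eq_one]
      have := hsq _ (P.mul_mem hb ha)
      exact this

end Group

section Pre

variable {F : Type*} [Field F] {q : ℕ}

/-- the preimage in `GL₃` of a subgroup of `PSU₃` -/
def pre (M : Subgroup (PSU 3 F q)) : Subgroup (GL (Fin 3) F) := (M.comap (pr 3 F q)).map (suHom 3 F q)

theorem mem_pre {M : Subgroup (PSU 3 F q)} {A : SU 3 F q} : suHom 3 F q A ∈ pre M ↔ pr 3 F q A ∈ M := by
  constructor
  · rintro ⟨B, hB, h⟩
    rw [suHom_injective h] at hB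
    exact hB
  · intro h
    exact ⟨A, h, rfl⟩

theorem pre_le {M : Subgroup (PSU 3 F q)} : pre M ≤ SUg 3 F q := by
  rintro _ ⟨B, -, rfl⟩
  exact suHom_mem B

theorem pre_max {M : Subgroup (PSU 3 F q)} (hM : IsCoatom M) : IsMaximalIn (SUg 3 F q) (pre M) := by
  have := Cfsg.Agent.H947.El.isMaximalIn_of_coatom (pr 3 F q) pr_surjective (suHom 3 F q) suHom_injective hM
  rwa [range_suHom] at this

variable [Fintype F]

theorem card_dvd_pre (M : Subgroup (PSU 3 F q)) : Nat.card M ∣ Nat.card (pre M) := by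
  have hcMπ : Nat.card M ∣ Nat.card (M.comap (pr 3 F q)) := by
    have h1 : (M.comap (pr 3 F q)).map (pr 3 F q) = M := Subgroup.map_comap_eq_self_of_surjective pr_surjective M
    have h2 : Nat.card ((M.comap (pr 3 F q)).map (pr 3 F q)) ∣ Nat.card (M.comap (pr 3 F q)) := Subgroup.card_map_dvd _ _
    rwa [h1] at h2
  have hcH : Nat.card (M.comap (pr 3 F q)) = Nat.card (pre M) := (Subgroup.card_map_of_injective suHom_injective).symm
  rwa [hcH] at hcMπ

theorem not_dvd_of_pre {M : Subgroup (PSU 3 F q)} {r : ℕ} (hr : r.Prime)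
    (h : ∀ x ∈ pre M, x ^ r = 1 → x = 1) : ¬ r ∣ Nat.card M := by
  intro hd
  have := Fact.mk hr
  obtain ⟨x, hx⟩ := exists_prime_orderOf_dvd_card' (G := pre M) r (hd.trans (card_dvd_pre M))
  have h1 := h x x.2 (by rw [← Subgroup.coe_pow, ← hx, pow_orderOf_eq_one]; rfl)
  have h2 : x = 1 := Subtype.ext h1
  rw [h2, orderOf_one] at hx
  exact hr.one_lt.ne hx

end Pre

section Torus

variable {F : Type*} [Field F] [Fintype F] {q : ℕ}

/-- `diag(1, a, a⁻¹)` -/
def tor (q : ℕ) (a : F) (ha : a ^ (q + 1) = 1) : SU 3 F q :=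
  suDiag q ![1, a, a⁻¹] (by
    have h0 : a ≠ 0 := by rintro rfl; rw [zero_pow (by omega)] at ha; exact zero_ne_one ha
    rw [Fin.prod_univ_three]
    simp [h0]) (by
    intro i
    fin_cases i
    · simp
    · simpa using ha
    · simp [ha])

theorem coe_tor (a : F) (ha : a ^ (q + 1) = 1) :
    (((tor q a ha : SU 3 F q) : Matrix.SpecialLinearGroup (Fin 3) F) : Matrix (Fin 3) (Fin 3) F) =
      Matrix.diagonal ![1, a, a⁻¹] := rfl

theorem tor_pow (a : F) (ha : a ^ (q + 1) = 1) : (tor q a ha) ^ (q + 1) = 1 := by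
  apply Subtype.ext
  apply Subtype.ext
  rw [SubgroupClass.coe_pow, Matrix.SpecialLinearGroup.coe_pow, coe_tor, Matrix.diagonal_pow]
  show _ = (1 : Matrix (Fin 3) (Fin 3) F)
  rw [← Matrix.diagonal_one]
  congr 1
  funext i
  fin_cases i
  · simp
  · simpa using ha
  · simp [ha]

theorem exists_tor (hF : Fintype.card F = q ^ 2) (hq : 2 ≤ q) : ∃ (a : F), a ^ (q + 1) = 1 ∧ a ≠ 1 ∧ a⁻¹ ≠ 1 ∧ a ≠ a⁻¹ := by
  classical
  have hc := card_units_eq hF
  have hcyc : IsCyclic Fˣ := inferInstance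
  obtain ⟨g, hg⟩ := hcyc.exists_generator
  have hgo : orderOf g = Nat.card Fˣ := orderOf_eq_card_of_forall_mem_zpowers hg
  have hq1 : 0 < q - 1 := by omega
  have ho : orderOf (g ^ (q - 1)) = q + 1 := by
    rw [orderOf_pow, hgo, hc, Nat.gcd_eq_right (dvd_mul_left _ _)]
    exact Nat.mul_div_cancel _ hq1
  set u := g ^ (q - 1) with hu
  have h1 : u ≠ 1 := by
    intro h
    rw [h, orderOf_one] at ho
    omega
  have h2 : u ^ 2 ≠ 1 := by
    intro h
    have := Nat.le_of_dvd (by norm_num) (orderOf_dvd_of_pow_eq_one h)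
    omega
  refine ⟨(u : F), ?_, ?_, ?_, ?_⟩
  · rw [← Units.val_pow_eq_pow_val, ← ho, pow_orderOf_eq_one, Units.val_one]
  · intro h
    exact h1 (Units.ext h)
  · intro h
    rw [inv_eq_one] at h
    exact h1 (Units.ext h)
  · intro h
    apply h2
    apply Units.ext
    rw [Units.val_pow_eq_pow_val, pow_two, Units.val_one]
    nth_rewrite 2 [h]
    exact mul_inv_cancel₀ u.ne_zero

end Torus

end Cfsg.Agent.H322.Der
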