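import Cfsg.Agent.H322.Der.UBase
import Cfsg.Agent.H957.UFrame

/-!
# `Row` for `PSU₃(q)`: the stabiliser of an isotropic point (helper322, task 2401)
-/

set_option autoImplicit false

namespace Cfsg.Agent.H322.Der

open Cfsg Cfsg.Geo Cfsg.Agent.H439.Der Cfsg.Agent.H918 Module Subgroup
  Cfsg.Agent.ClassicalGeometry.PSUAutBasic Cfsg.Agent.LieClassical.HermSiegel
  Cfsg.Agent.LieClassical.HermBasic Cfsg.Agent.LieClassical.SUBasic
open scoped MatrixGroups Matrix

variable {F : Type*} [Field F] [Fintype F] {q p : ℕ} [hp : Fact p.Prime] [CharP F p]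

omit [Fintype F] in
theorem eq_one_of_pow_char {x : F} {l : ℕ} (h : x ^ p ^ l = 1) : x = 1 := by
  have h1 : (x - 1) ^ p ^ l = 0 := by rw [sub_pow_char_pow, h, one_pow, sub_self]
  exact sub_eq_zero.1 (pow_eq_zero_iff (pow_pos hp.out.pos l).ne' |>.1 h1)

/-- the centraliser of the regular torus element contains no element of order `p` -/
theorem no_commute_tor (hF : Fintype.card F = q ^ 2) {a : F} (ha : a ^ (q + 1) = 1) (h1 : a ≠ 1) (h2 : a⁻¹ ≠ 1)
    (h3 : a ≠ a⁻¹) {g : PSU 3 F q} (hg : orderOf g = p) (hc : Commute g (pr 3 F q (tor q a ha))) : False := by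
  obtain ⟨u, rfl, l, hl⟩ := exists_lift hF le_rfl (p := p) (x := g) (k := 1) (by rw [pow_one, ← hg, pow_orderOf_eq_one])
  set y := tor q a ha with hy
  have h4 : y * u * y⁻¹ = u := by
    refine eq_of_pr_eq hF le_rfl (p := p) (k := l) (l := l) ?_ hl ?_
    · rw [conj_pow, hl, mul_one, mul_inv_cancel]
    · rw [map_mul, map_mul, map_inv, ← hc.eq, mul_inv_cancel_right]
  have h5 : y * u = u * y := mul_inv_eq_iff_eq_mul.1 h4
  set U : Matrix (Fin 3) (Fin 3) F := ((u : Matrix.SpecialLinearGroup (Fin 3) F) : Matrix (Fin 3) (Fin 3) F) with hU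
  set d : Fin 3 → F := ![1, a, a⁻¹] with hd
  have h6 : Matrix.diagonal d * U = U * Matrix.diagonal d := by
    have := congrArg (fun z : SU 3 F q => ((z : Matrix.SpecialLinearGroup (Fin 3) F) : Matrix (Fin 3) (Fin 3) F)) h5
    exact this
  have hdi : ∀ i j, i ≠ j → d i ≠ d j := by
    intro i j hij
    fin_cases i <;> fin_cases j <;>
      first | exact absurd rfl hij | exact h1 | exact h1.symm | exact h2 | exact h2.symm | exact h3 | exact h3.symm
  have hoff : ∀ i j, i ≠ j → U i j = 0 := by
    intro i j hij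
    have h7 := congrFun (congrFun h6 i) j
    rw [Matrix.diagonal_mul, Matrix.mul_diagonal] at h7
    have h8 : (d i - d j) * U i j = 0 := by linear_combination h7
    exact (mul_eq_zero.1 h8).resolve_left (sub_ne_zero.2 (hdi i j hij))
  have hUd : U = Matrix.diagonal (fun i => U i i) := by
    ext i j
    by_cases hij : i = j
    · subst hij; rw [Matrix.diagonal_apply_eq]
    · rw [Matrix.diagonal_apply_ne _ hij, hoff i j hij]
  have h9 : U ^ p ^ l = 1 := by
    have := congrArg (fun z : SU 3 F q => ((z : Matrix.SpecialLinearGroup (Fin 3) F) : Matrix (Fin 3) (Fin 3) F)) hl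
    simpa using this
  rw [hUd, Matrix.diagonal_pow, ← Matrix.diagonal_one] at h9
  have h10 := Matrix.diagonal_injective h9
  have h11 : ∀ i, U i i = 1 := fun i => eq_one_of_pow_char (p := p) (l := l) (congrFun h10 i)
  have h12 : u = 1 := by
    apply Subtype.ext
    apply Subtype.ext
    show U = 1
    rw [hUd, ← Matrix.diagonal_one]
    congr 1
    funext i
    exact h11 i
  rw [h12, map_one, orderOf_one] at hg
  exact hp.out.one_lt.ne hg

/-- an element of order dividing `q + 1` fixing an isotropic point commutes with an element of order `p` -/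
theorem exists_commute_of_iso (hF : Fintype.card F = q ^ 2) {m : SU 3 F q} (hm : pr 3 F q m ^ (q + 1) = 1)
    {w : Fin 3 → F} (hw0 : w ≠ 0) (hw : hermForm 3 F q w w = 0) {a : F} (ha : act m w = a • w) :
    ∃ g : PSU 3 F q, orderOf g = p ∧ Commute g (pr 3 F q m) := by
  have ha0 : a ≠ 0 := by
    rintro rfl
    rw [zero_smul, ← act_zero m] at ha
    exact hw0 (act_injective m ha)
  -- `a ^ (q + 1) = 1`
  have hpow : ∀ k : ℕ, act (m ^ k) w = a ^ k • w := by
    intro k
    induction k with
    | zero => rw [pow_zero, pow_zero, act_one, one_smul]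
    | succ k ih => rw [pow_succ, act_mul, ha, act_smul, ih, smul_smul, pow_succ, mul_comm]
  rw [← map_pow, pr_eq_one_iff, mem_center_SU_iff hF le_rfl] at hm
  obtain ⟨c, hc3, hcq, hc⟩ := hm
  have hac : a ^ (q + 1) = c := by
    have h1 := hpow (q + 1)
    rw [hc, act_suScalar] at h1
    have h2 : (a ^ (q + 1) - c) • w = 0 := by rw [sub_smul, h1, sub_self]
    exact sub_eq_zero.1 ((smul_eq_zero.1 h2).resolve_right hw0)
  have hq2 := two_le hF
  have hc1 : c ^ (q - 1) = 1 := by
    rw [← hac, ← pow_mul]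
    have h1 : (q + 1) * (q - 1) = Fintype.card F - 1 := by
      rw [hF]
      have := Nat.sq_sub_sq q 1
      rw [one_pow] at this
      exact this.symm
    rw [h1, FiniteField.pow_card_sub_one_eq_one a ha0]
  have hc2 : c ^ 2 = 1 := by
    have h1 : q + 1 = (q - 1) + 2 := by omega
    rw [h1, pow_add, hc1, one_mul] at hcq
    exact hcq
  have hc4 : c = 1 := by
    have : c ^ 3 = c ^ 2 * c := by ring
    rw [this, hc2, one_mul] at hc3
    exact hc3
  rw [hc4] at hac
  have haq : a * a ^ q = 1 := by rw [← pow_succ', hac]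
  -- the transvection
  obtain ⟨μ, hμ0, hμ⟩ := exists_trace_zero_ne hF
  set t := transv hF w hw μ hμ with ht
  have htp : ∀ k : ℕ, ∀ v, act (t ^ k) v = v + (k * μ * hermForm 3 F q v w) • w := by
    intro k
    induction k with
    | zero => intro v; simp [act_one]
    | succ k ih =>
      intro v
      rw [pow_succ, act_mul, act_transv, ih, herm_add_left, herm_smul_left, hw]
      rw [mul_zero, add_zero, add_assoc, ← add_smul]
      congr 2
      push_cast; ring
  have ht1 : t ^ p = 1 := by
    apply ext_act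
    intro v
    rw [htp, CharP.cast_eq_zero, zero_mul, zero_mul, zero_smul, add_zero, act_one]
  have ht0 : pr 3 F q t ≠ 1 := by
    intro h
    rw [pr_eq_one_iff] at h
    obtain ⟨e, he0, -, he⟩ := exists_scalar_of_mem_center hF le_rfl h
    have h1 := he w
    rw [act_transv, hw, mul_zero, zero_smul, add_zero] at h1
    have h2 : (1 - e) • w = 0 := by rw [sub_smul, one_smul, ← h1, sub_self]
    have h3 : e = 1 := (sub_eq_zero.1 ((smul_eq_zero.1 h2).resolve_right hw0)).symm
    obtain ⟨v, hv⟩ := exists_herm_ne_zero hF hw0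
    have h4 := he v
    rw [act_transv, h3, one_smul, add_eq_left, smul_eq_zero] at h4
    rcases h4 with h4 | h4
    · rcases mul_eq_zero.1 h4 with h5 | h5
      · exact hμ0 h5
      · exact hv (herm_eq_zero_swap hF h5)
    · exact hw0 h4
  refine ⟨pr 3 F q t, orderOf_eq_prime (by rw [← map_pow, ht1, map_one]) ht0, ?_⟩
  have hcom : t * m = m * t := by
    apply ext_act
    intro v
    rw [act_mul, act_mul, act_transv, act_transv, act_add, act_smul, ha, smul_smul]
    congr 2
    have h1 := herm_act m v w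
    rw [ha, herm_smul_right] at h1
    rw [← h1]
    linear_combination (-μ * hermForm 3 F q (act m v) w) * haq
  show pr 3 F q t * pr 3 F q m = pr 3 F q m * pr 3 F q t
  rw [← map_mul, hcom, map_mul]

/-- **isotropic points** -/
theorem borel_two (hF : Fintype.card F = q ^ 2) (hq : 3 ≤ q) {M : Subgroup (PSU 3 F q)} {n r : ℕ}
    (h : Cfsg.Agent.H947.El.PN F p n q r) {W : Submodule F (Fin 3 → F)} (hW0 : W ≠ ⊥)
    (hWs : IsTotallySingularFor (hermForm 3 F q) W) (he : pre M = subspaceStabilizer W ⊓ SUg 3 F q) :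
    Two (PSU 3 F q) M := by
  have hfin : Finite (PSU 3 F q) := Quotient.finite _
  have hrT := (Cfsg.Agent.H947.El.psu3_orders hF h).1
  have hdim : 2 * finrank F W ≤ 3 := Cfsg.Agent.H957.Uni.two_mul_finrank_le hF hWs
  have hWt : W ≠ ⊤ := by
    rintro rfl
    rw [finrank_top, finrank_fin_fun] at hdim
    omega
  have hrM : ¬ r ∣ Nat.card M := by
    refine not_dvd_of_pre h.pr fun x hx hxr => ?_
    by_contra hx1
    rw [he] at hx
    refine h.no_sub (X := (x : Matrix (Fin 3) (Fin 3) F)) ?_ ?_ hW0 hWt (fun v hv => (hx.1 v).1 hv)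
    · rw [← Units.val_pow_eq_pow_val, hxr, Units.val_one]
    · intro h8
      exact hx1 (Units.ext (by rw [h8, Units.val_one]))
  obtain ⟨a, ha, ha1, ha2, ha3⟩ := exists_tor hF (by omega)
  have hyq : pr 3 F q (tor q a ha) ^ (q + 1) = 1 := by rw [← map_pow, tor_pow, map_one]
  refine two_of_prime_and h.pr hrT hrM (y := pr 3 F q (tor q a ha)) ?_ ?_
  · intro hd
    have h1 : r ∣ q + 1 := hd.trans (orderOf_dvd_of_pow_eq_one hyq)
    have h2 : r ∣ q ^ 2 - 1 := by
      have := Nat.sq_sub_sq q 1
      rw [one_pow] at this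
      rw [this]
      exact h1.mul_right _
    rw [h.qp, ← pow_mul] at h2
    have := h.n0
    exact h.not_dvd (by omega) (by omega) h2
  · intro φ hφ
    obtain ⟨m, hm⟩ := pr_surjective (φ (pr 3 F q (tor q a ha)))
    rw [← hm] at hφ
    have hmM : suHom 3 F q m ∈ pre M := mem_pre.2 hφ
    rw [he] at hmM
    -- the isotropic vector
    have hf1 : finrank F W = 1 := by
      have : finrank F W ≠ 0 := by rw [Ne, Submodule.finrank_eq_zero]; exact hW0
      omega
    obtain ⟨w, hwW, hw0⟩ := W.ne_bot_iff.1 hW0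
    have hmw : act m w ∈ W := (hmM.1 w).1 hwW
    obtain ⟨b, hb⟩ := (finrank_eq_one_iff_of_nonzero' (⟨w, hwW⟩ : W) (by
      intro h1
      exact hw0 (congrArg Subtype.val h1))).1 hf1 ⟨act m w, hmw⟩
    have hb' : act m w = b • w := (congrArg Subtype.val hb).symm
    have hmq : pr 3 F q m ^ (q + 1) = 1 := by rw [hm, ← map_pow, hyq, map_one]
    obtain ⟨g, hg, hgc⟩ := exists_commute_of_iso (p := p) hF hmq hw0 (hWs w hwW w hwW) hb'
    rw [hm] at hgc
    refine no_commute_tor (p := p) hF ha ha1 ha2 ha3 (g := φ.symm g) ?_ ?_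
    · rw [Cfsg.Agent.H938.Sax.orderOf_mulEquiv, hg]
    · have := hgc.map φ.symm
      rwa [MulEquiv.symm_apply_apply] at this

end Cfsg.Agent.H322.Der
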