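import Cfsg.Agent.H322.Der.UGeo

/-!
# An element of order `12` in `PSU₃(3)` and an element of order `8` in `PSU₃(5)` (helper322, task 2401)
-/

set_option autoImplicit false

namespace Cfsg.Agent.H322.Der

open Cfsg Cfsg.Geo Cfsg.Agent.H439.Der Cfsg.Agent.H918 Module Subgroup
  Cfsg.Agent.ClassicalGeometry.PSUAutBasic Cfsg.Agent.LieClassical.HermSiegel
  Cfsg.Agent.LieClassical.HermBasic Cfsg.Agent.LieClassical.SUBasic
open scoped MatrixGroups Matrix

theorem exists_order_twelve {F : Type*} [Field F] [Fintype F] [CharP F 3] (hF : Fintype.card F = 3 ^ 2) :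
    ∃ x : PSU 3 F 3, orderOf x = 12 := by
  have h3 : Fact (Nat.Prime 3) := ⟨Nat.prime_three⟩
  have h2 : Fact (Nat.Prime 2) := ⟨Nat.prime_two⟩
  obtain ⟨a, ha, ha1, -, ha3⟩ := exists_tor hF (by norm_num)
  have ha0 : a ≠ 0 := by rintro rfl; rw [zero_pow (by omega)] at ha; exact zero_ne_one ha
  have ha2 : a ^ 2 ≠ 1 := by
    intro h
    apply ha3
    rw [eq_comm, inv_eq_iff_eq_inv, eq_comm]
    exact inv_eq_of_mul_eq_one_left (by rw [← pow_two, h])
  have hp : ∏ i, (![a, a, (a⁻¹) ^ 2] : Fin 3 → F) i = 1 := by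
    rw [Fin.prod_univ_three]
    show a * a * (a⁻¹) ^ 2 = 1
    field_simp
  have hq : ∀ i, (![a, a, (a⁻¹) ^ 2] : Fin 3 → F) i ^ (3 + 1) = 1 := by
    intro i
    fin_cases i
    · exact ha
    · exact ha
    · show ((a⁻¹) ^ 2) ^ (3 + 1) = 1
      rw [← pow_mul, mul_comm, pow_mul, inv_pow, ha, inv_one, one_pow]
  set m : SU 3 F 3 := suDiag 3 ![a, a, (a⁻¹) ^ 2] hp hq with hm
  obtain ⟨y, hy⟩ := exists_norm_eq hF (c := (-1 : F)) (by norm_num)
  set w : Fin 3 → F := ![1, y, 0] with hw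
  have hw0 : w ≠ 0 := by
    intro h
    have := congrFun h 0
    exact one_ne_zero this
  have hww : hermForm 3 F 3 w w = 0 := by
    rw [herm_def, Fin.sum_univ_three]
    show 1 * 1 ^ 3 + y * y ^ 3 + 0 * 0 ^ 3 = (0 : F)
    rw [hy]; ring
  have hmat : mat m = Matrix.diagonal ![a, a, (a⁻¹) ^ 2] := rfl
  have hact : act m w = a • w := by
    rw [act_def, hmat]
    funext i
    rw [Matrix.mulVec_diagonal]
    fin_cases i
    · show a * 1 = a * 1
      rfl
    · show a * y = a * y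
      rfl
    · show (a⁻¹) ^ 2 * 0 = a * 0
      rw [mul_zero, mul_zero]
  have hm4 : m ^ 4 = 1 := by
    apply Subtype.ext
    apply Subtype.ext
    rw [SubgroupClass.coe_pow, Matrix.SpecialLinearGroup.coe_pow]
    show (mat m) ^ 4 = (1 : Matrix (Fin 3) (Fin 3) F)
    rw [hmat, Matrix.diagonal_pow, ← Matrix.diagonal_one]
    congr 1
    funext i
    exact hq i
  have hm2 : pr 3 F 3 m ^ 2 ^ 1 ≠ 1 := by
    intro h
    rw [← map_pow, pr_eq_one_iff] at h
    obtain ⟨c, hc0, -, hc⟩ := exists_scalar_of_mem_center hF le_rfl h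
    have hmat2 : mat (m ^ 2 ^ 1) = Matrix.diagonal ![a ^ 2, a ^ 2, ((a⁻¹) ^ 2) ^ 2] := by
      have h1 : mat (m ^ 2 ^ 1) = mat m * mat m := by
        rw [pow_one, pow_two, mat_mul]
      rw [h1, hmat, Matrix.diagonal_mul_diagonal]
      congr 1
      funext i
      fin_cases i
      · exact (pow_two _).symm
      · exact (pow_two _).symm
      · exact (pow_two _).symm
    have h5 := congrFun (hc (Pi.single 0 1)) 0
    have h6 := congrFun (hc (Pi.single 2 1)) 2
    rw [act_def, hmat2, Matrix.mulVec_diagonal] at h5 h6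
    simp at h5 h6
    apply ha2
    rw [h5, ← h6, ← pow_mul]
    have : a ^ 4 = 1 := ha
    norm_num [this]
  have hmo : orderOf (pr 3 F 3 m) = 2 ^ (1 + 1) := orderOf_eq_prime_pow hm2 (by rw [← map_pow, show 2 ^ (1 + 1) = 4 by norm_num, hm4, map_one])
  obtain ⟨g, hg, hgc⟩ := exists_commute_of_iso (p := 3) hF (m := m) (by rw [← map_pow, show 3 + 1 = 4 by norm_num, hm4, map_one]) hw0 hww hact
  refine ⟨g * pr 3 F 3 m, ?_⟩
  rw [hgc.orderOf_mul_eq_mul_orderOf_of_coprime (by rw [hg, hmo]; decide), hg, hmo]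
  norm_num

theorem exists_order_eight {F : Type*} [Field F] [Fintype F] [CharP F 5] (hF : Fintype.card F = 5 ^ 2) :
    ∃ x : PSU 3 F 5, orderOf x = 8 := by
  have h5p : Fact (Nat.Prime 5) := ⟨by norm_num⟩
  have h2p : Fact (Nat.Prime 2) := ⟨Nat.prime_two⟩
  have h5 : (5 : F) = 0 := by
    have := CharP.cast_eq_zero F 5
    exact_mod_cast this
  obtain ⟨b, hb⟩ : ∃ b : F, b * b = 2 := by
    have h20 : (2 : F) ≠ 0 := by
      intro h
      have h1 : (1 : F) = 0 := by linear_combination h5 - 2 * h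
      exact one_ne_zero h1
    have h1 : IsSquare (2 : F) := by
      rw [FiniteField.isSquare_iff (by rw [ringChar.eq F 5]; norm_num) h20, hF]
      norm_num
      linear_combination 819 * h5
    obtain ⟨b, hb⟩ := h1
    exact ⟨b, hb.symm⟩
  have hb5 : b ^ 5 = -b := by
    have : b ^ 5 = b * (b * b) * (b * b) := by ring
    rw [this, hb]
    linear_combination b * h5
  let A : Matrix (Fin 3) (Fin 3) F := !![-b, b, 0; -b, -b, 0; 0, 0, -1]
  have hA : ∀ v : Fin 3 → F, A *ᵥ v = ![-b * v 0 + b * v 1, -b * v 0 - b * v 1, - v 2] := by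
    intro v
    funext i
    fin_cases i <;> simp [A, Matrix.mulVec, dotProduct, Fin.sum_univ_three] <;> ring
  have hdet : A.det = 1 := by
    rw [Matrix.det_fin_three]
    simp [A]
    linear_combination -2 * hb - h5
  have hpre : ∀ u v, hermForm 3 F 5 (A *ᵥ u) (A *ᵥ v) = hermForm 3 F 5 u v := by
    intro u v
    rw [hA, hA, herm_def, herm_def, Fin.sum_univ_three, Fin.sum_univ_three]
    show (-b * u 0 + b * u 1) * (-b * v 0 + b * v 1) ^ 5 + (-b * u 0 - b * u 1) * (-b * v 0 - b * v 1) ^ 5 +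
      (-u 2) * (-v 2) ^ 5 = u 0 * v 0 ^ 5 + u 1 * v 1 ^ 5 + u 2 * v 2 ^ 5
    have e1 : (-b * v 0 + b * v 1) ^ 5 = b * v 0 ^ 5 - b * v 1 ^ 5 := by
      rw [add_pow_q hF, mul_pow, mul_pow, hb5, neg_pow_q hF, hb5]; ring
    have e2 : (-b * v 0 - b * v 1) ^ 5 = b * v 0 ^ 5 + b * v 1 ^ 5 := by
      rw [sub_pow_q hF, mul_pow, mul_pow, hb5, neg_pow_q hF, hb5]; ring
    rw [e1, e2, neg_pow_q hF]
    linear_combination (-2 * (u 0 * v 0 ^ 5 + u 1 * v 1 ^ 5)) * hb - (u 0 * v 0 ^ 5 + u 1 * v 1 ^ 5) * h5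
  let x : SU 3 F 5 := ⟨⟨A, hdet⟩, hpre⟩
  have hxA : mat x = A := rfl
  have hx2 : mat (x * x) = !![0, 1, 0; -1, 0, 0; 0, 0, 1] := by
    rw [mat_mul, hxA]
    ext i j
    fin_cases i <;> fin_cases j <;> simp [A, Matrix.mul_apply, Fin.sum_univ_three]
    · linear_combination -2 * hb - h5
    · linear_combination 2 * hb + h5
  have hx4 : mat (x * x * (x * x)) = !![-1, 0, 0; 0, -1, 0; 0, 0, 1] := by
    rw [mat_mul, hx2]
    ext i j
    fin_cases i <;> fin_cases j <;> simp [Matrix.mul_apply, Fin.sum_univ_three]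
  have hx8 : x * x * (x * x) * (x * x * (x * x)) = 1 := by
    apply mat_injective
    rw [mat_mul, hx4, mat_one]
    ext i j
    fin_cases i <;> fin_cases j <;> simp [Matrix.mul_apply, Fin.sum_univ_three]
  have e4 : x ^ 4 = x * x * (x * x) := by simp only [pow_succ, pow_zero, one_mul, mul_assoc]
  have e8 : x ^ 8 = x * x * (x * x) * (x * x * (x * x)) := by simp only [pow_succ, pow_zero, one_mul, mul_assoc]
  refine ⟨pr 3 F 5 x, ?_⟩
  have h1 : pr 3 F 5 x ^ 2 ^ 2 ≠ 1 := by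
    intro h
    rw [← map_pow, pr_eq_one_iff, show (2 : ℕ) ^ 2 = 4 by norm_num, e4] at h
    obtain ⟨c, hc0, -, hc⟩ := exists_scalar_of_mem_center hF le_rfl h
    have h6 := congrFun (hc (Pi.single 0 1)) 0
    have h7 := congrFun (hc (Pi.single 2 1)) 2
    rw [act_def, hx4] at h6 h7
    simp at h6 h7
    have h8 : (1 : F) = 0 := by linear_combination h5 - 2 * (h7 - h6)
    exact one_ne_zero h8
  have := orderOf_eq_prime_pow h1 (by
    rw [← map_pow, show (2 : ℕ) ^ (2 + 1) = 8 by norm_num, e8, hx8, map_one])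
  rw [this]; norm_num

end Cfsg.Agent.H322.Der
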