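import Cfsg.Agent.H322.Der.UBorel
import Cfsg.Agent.S0277
import Cfsg.Agent.S0837

/-!
# `Row` for `PSU₃(q)`: nonisotropic points, frames, cubic fields, subfields (helper322, task 2401)
-/

set_option autoImplicit false

namespace Cfsg.Agent.H322.Der

open Cfsg Cfsg.Geo Cfsg.Agent.H439.Der Cfsg.Agent.H918 Module Subgroup
  Cfsg.Agent.ClassicalGeometry.PSUAutBasic Cfsg.Agent.LieClassical.HermSiegel
  Cfsg.Agent.LieClassical.HermBasic Cfsg.Agent.LieClassical.SUBasic
open scoped MatrixGroups Matrix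

section Lin

variable {F : Type*} [Field F] {p : ℕ} [hp : Fact p.Prime] [CharP F p]

theorem fix_of_line {x : GL (Fin 3) F} {l : ℕ} (hx : x ^ p ^ l = 1) {W : Submodule F (Fin 3 → F)} (h1 : finrank F W = 1)
    {v : Fin 3 → F} (hv : v ∈ W) (hxv : (x : Matrix (Fin 3) (Fin 3) F) *ᵥ v ∈ W) :
    (x : Matrix (Fin 3) (Fin 3) F) *ᵥ v = v := by
  by_cases hv0 : v = 0
  · rw [hv0, Matrix.mulVec_zero]
  obtain ⟨b, hb⟩ := (finrank_eq_one_iff_of_nonzero' (⟨v, hv⟩ : W) (by
    intro h1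
    exact hv0 (congrArg Subtype.val h1))).1 h1 ⟨_, hxv⟩
  have hb' : (x : Matrix (Fin 3) (Fin 3) F) *ᵥ v = b • v := (congrArg Subtype.val hb).symm
  have hpow : ∀ k : ℕ, ((x ^ k : GL (Fin 3) F) : Matrix (Fin 3) (Fin 3) F) *ᵥ v = b ^ k • v := by
    intro k
    induction k with
    | zero => simp
    | succ k ih =>
      rw [pow_succ', Units.val_mul, ← Matrix.mulVec_mulVec, ih, Matrix.mulVec_smul, hb', smul_smul, pow_succ]
  have h2 := hpow (p ^ l)
  rw [hx, Units.val_one, Matrix.one_mulVec] at h2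
  have h3 : (1 - b ^ p ^ l) • v = 0 := by rw [sub_smul, one_smul, ← h2, sub_self]
  have h4 : b ^ p ^ l = 1 := (sub_eq_zero.1 ((smul_eq_zero.1 h3).resolve_right hv0)).symm
  rw [hb', eq_one_of_pow_char (p := p) h4, one_smul]

theorem eq_one_of_lines {x : GL (Fin 3) F} {l : ℕ} (hx : x ^ p ^ l = 1) {D : Fin 3 → Submodule F (Fin 3 → F)}
    (hD : IsMDecomposition 1 D) (h : ∀ i, ∀ v ∈ D i, (x : Matrix (Fin 3) (Fin 3) F) *ᵥ v ∈ D i) : x = 1 := by
  have h1 : (⊤ : Submodule F (Fin 3 → F)) ≤ LinearMap.ker (Matrix.toLin' ((x : Matrix (Fin 3) (Fin 3) F) - 1)) := by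
    rw [← hD.iSup_eq_top, iSup_le_iff]
    intro i v hv
    rw [LinearMap.mem_ker, Matrix.toLin'_apply, Matrix.sub_mulVec, Matrix.one_mulVec,
      fix_of_line (p := p) hx (hD.finrank_eq i) hv (h i v hv), sub_self]
  apply Units.ext
  rw [Units.val_one]
  apply Matrix.toLin'.injective
  apply LinearMap.ext
  intro v
  have h2 := h1 (Submodule.mem_top (x := v))
  rw [LinearMap.mem_ker, Matrix.toLin'_apply, Matrix.sub_mulVec, Matrix.one_mulVec, sub_eq_zero] at h2
  rw [Matrix.toLin'_apply, Matrix.toLin'_apply, Matrix.one_mulVec, h2]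

theorem pow_map_lines {x : GL (Fin 3) F} {D : Fin 3 → Submodule F (Fin 3 → F)} {σ : Equiv.Perm (Fin 3)}
    (hσ : ∀ i, (D i).map (Matrix.toLin' (x : Matrix (Fin 3) (Fin 3) F)) = D (σ i)) (k : ℕ) (i : Fin 3) :
    (D i).map (Matrix.toLin' ((x ^ k : GL (Fin 3) F) : Matrix (Fin 3) (Fin 3) F)) = D ((σ ^ k) i) := by
  induction k generalizing i with
  | zero => simp
  | succ k ih =>
    rw [pow_succ', Units.val_mul, Matrix.toLin'_mul, Submodule.map_comp, ih, hσ, pow_succ', Equiv.Perm.mul_apply]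

/-- a nonzero fixed vector in an invariant subspace -/
theorem exists_fixed {x : GL (Fin 3) F} {l : ℕ} (hx : x ^ p ^ l = 1) {U : Submodule F (Fin 3 → F)} (hU : U ≠ ⊥)
    (hxU : ∀ v ∈ U, (x : Matrix (Fin 3) (Fin 3) F) *ᵥ v ∈ U) :
    ∃ u ∈ U, u ≠ 0 ∧ (x : Matrix (Fin 3) (Fin 3) F) *ᵥ u = u := by
  classical
  obtain ⟨v, hv, hv0⟩ := U.ne_bot_iff.1 hU
  set N : Matrix (Fin 3) (Fin 3) F := (x : Matrix (Fin 3) (Fin 3) F) - 1 with hN
  have hNp : N ^ p ^ l = 0 := by
    rw [hN, sub_pow_char_pow_of_commute (R := Matrix (Fin 3) (Fin 3) F) (p := p) (n := l) (Commute.one_right _), one_pow, ← Units.val_pow_eq_pow_val, hx, Units.val_one,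
      sub_self]
  have hNU : ∀ k : ℕ, N ^ k *ᵥ v ∈ U := by
    intro k
    induction k with
    | zero => simpa using hv
    | succ k ih =>
      rw [pow_succ', ← Matrix.mulVec_mulVec, hN, Matrix.sub_mulVec, Matrix.one_mulVec]
      exact U.sub_mem (hxU _ ih) ih
  have hex : ∃ k : ℕ, N ^ k *ᵥ v = 0 := ⟨p ^ l, by rw [hNp, Matrix.zero_mulVec]⟩
  have h0 : Nat.find hex ≠ 0 := by
    intro h
    have := Nat.find_spec hex
    rw [h, pow_zero, Matrix.one_mulVec] at this
    exact hv0 this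
  obtain ⟨j, hj⟩ := Nat.exists_eq_succ_of_ne_zero h0
  refine ⟨N ^ j *ᵥ v, hNU j, ?_, ?_⟩
  · exact Nat.find_min hex (by omega)
  · have := Nat.find_spec hex
    rw [hj, pow_succ', ← Matrix.mulVec_mulVec] at this
    have h2 : (x : Matrix (Fin 3) (Fin 3) F) = N + 1 := by rw [hN]; abel
    rw [h2, Matrix.add_mulVec, Matrix.one_mulVec, this, zero_add]

end Lin

section Main

variable {F : Type*} [Field F] [Fintype F] {q p : ℕ} [hp : Fact p.Prime] [CharP F p]

/-- a `p`-element fixing a nonisotropic vector and a vector orthogonal to it has `(x - 1)² = 0` -/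
theorem sq_zero_of_fix (hF : Fintype.card F = q ^ 2) {x : GL (Fin 3) F} (hxG : ∀ u v, hermForm 3 F q
    ((x : Matrix (Fin 3) (Fin 3) F) *ᵥ u) ((x : Matrix (Fin 3) (Fin 3) F) *ᵥ v) = hermForm 3 F q u v) {l : ℕ}
    (hx : x ^ p ^ l = 1) {w u : Fin 3 → F} (hw : hermForm 3 F q w w ≠ 0) (hxw : (x : Matrix (Fin 3) (Fin 3) F) *ᵥ w = w)
    (hu0 : u ≠ 0) (huw : hermForm 3 F q u w = 0) (hxu : (x : Matrix (Fin 3) (Fin 3) F) *ᵥ u = u) (v : Fin 3 → F) :
    (x : Matrix (Fin 3) (Fin 3) F) *ᵥ ((x : Matrix (Fin 3) (Fin 3) F) *ᵥ v - v) =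
      (x : Matrix (Fin 3) (Fin 3) F) *ᵥ v - v := by
  let φ : (Fin 3 → F) →ₗ[F] (Fin 2 → F) :=
    { toFun := fun v => ![hermForm 3 F q v w, hermForm 3 F q v u]
      map_add' := fun a b => by
        funext i
        fin_cases i
        · exact herm_add_left _ _ _
        · exact herm_add_left _ _ _
      map_smul' := fun c v => by
        funext i
        fin_cases i
        · exact herm_smul_left _ _ _
        · exact herm_smul_left _ _ _ }
  have hφ : ∀ v, φ v = ![hermForm 3 F q v w, hermForm 3 F q v u] := fun v => rfl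
  have hwu : hermForm 3 F q w u = 0 := herm_eq_zero_swap hF huw
  obtain ⟨z, hz⟩ := exists_herm_ne_zero hF hu0
  have hzu : hermForm 3 F q z u ≠ 0 := fun h => hz (herm_eq_zero_swap hF h)
  have hsurj : LinearMap.range φ = ⊤ := by
    rw [LinearMap.range_eq_top]
    intro c
    refine ⟨((c 0 - c 1 / hermForm 3 F q z u * hermForm 3 F q z w) / hermForm 3 F q w w) • w +
      (c 1 / hermForm 3 F q z u) • z, ?_⟩
    rw [hφ]
    funext i
    fin_cases i
    · show hermForm 3 F q _ w = c 0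
      rw [herm_add_left, herm_smul_left, herm_smul_left]
      field_simp
      ring
    · show hermForm 3 F q _ u = c 1
      rw [herm_add_left, herm_smul_left, herm_smul_left, hwu]
      field_simp
      ring
  have hker : finrank F (LinearMap.ker φ) = 1 := by
    have h1 := LinearMap.finrank_range_add_finrank_ker φ
    rw [hsurj, finrank_top, finrank_fin_fun, finrank_fin_fun] at h1
    omega
  have hmem : ∀ y, y ∈ LinearMap.ker φ ↔ hermForm 3 F q y w = 0 ∧ hermForm 3 F q y u = 0 := by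
    intro y
    rw [LinearMap.mem_ker, hφ]
    constructor
    · intro h
      exact ⟨congrFun h 0, congrFun h 1⟩
    · rintro ⟨h1, h2⟩
      funext i
      fin_cases i
      · exact h1
      · exact h2
  refine fix_of_line (p := p) hx hker ?_ ?_
  · rw [hmem, herm_sub_left, herm_sub_left]
    constructor
    · have h1 := hxG v w
      rw [hxw] at h1
      rw [h1, sub_self]
    · have h1 := hxG v u
      rw [hxu] at h1
      rw [h1, sub_self]
  · rw [hmem]
    have h3 := hxG ((x : Matrix (Fin 3) (Fin 3) F) *ᵥ v - v) w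
    have h4 := hxG ((x : Matrix (Fin 3) (Fin 3) F) *ᵥ v - v) u
    rw [hxw, herm_sub_left] at h3
    rw [hxu, herm_sub_left] at h4
    have h1 := hxG v w
    rw [hxw] at h1
    have h2 := hxG v u
    rw [hxu] at h2
    exact ⟨by rw [h3, h1, sub_self], by rw [h4, h2, sub_self]⟩

theorem exists_gl_lift (hF : Fintype.card F = q ^ 2) {M : Subgroup (PSU 3 F q)} {g : PSU 3 F q} (hg : g ∈ M) {k : ℕ}
    (hk : g ^ p ^ k = 1) :
    ∃ m : SU 3 F q, pr 3 F q m = g ∧ suHom 3 F q m ∈ pre M ∧ ∃ l, suHom 3 F q m ^ p ^ l = 1 := by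
  obtain ⟨m, hm, l, hl⟩ := exists_lift hF le_rfl (p := p) hk
  exact ⟨m, hm, mem_pre.2 (by rw [hm]; exact hg), l, by rw [← map_pow, hl, map_one]⟩

theorem sq_eq_one_of_suHom {m : SU 3 F q} {g : PSU 3 F q} (hm : pr 3 F q m = g) (h : suHom 3 F q m ^ 2 = 1) :
    orderOf g ≠ 4 := by
  intro h4
  have h1 : m ^ 2 = 1 := by
    apply suHom_injective
    rw [map_pow, h, map_one]
  have h2 : orderOf g ∣ 2 := orderOf_dvd_of_pow_eq_one (by rw [← hm, ← map_pow, h1, map_one])
  rw [h4] at h2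
  revert h2; norm_num

end Main

section Even

variable {F : Type*} [Field F] [Fintype F] {q : ℕ} [CharP F 2]

/-- **nonisotropic points**, `q` even: no elements of order `4` -/
theorem point_no_four (hF : Fintype.card F = q ^ 2) {M : Subgroup (PSU 3 F q)} {W : Submodule F (Fin 3 → F)}
    (hW0 : W ≠ ⊥) (hWn : IsNondegenerateOn (hermForm 3 F q) W) (hW3 : 2 * finrank F W < 3)
    (he : pre M = subspaceStabilizer W ⊓ SUg 3 F q) {g : PSU 3 F q} (hg : g ∈ M) : orderOf g ≠ 4 := by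
  intro h4
  have : Fact (Nat.Prime 2) := ⟨Nat.prime_two⟩
  obtain ⟨m, hm, hmM, l, hl⟩ := exists_gl_lift (p := 2) hF hg (k := 2) (by
    rw [show (2 : ℕ) ^ 2 = 4 by norm_num, ← h4, pow_orderOf_eq_one])
  set x := suHom 3 F q m with hx
  rw [he] at hmM
  have hxG := (mem_SUg.1 hmM.2).1
  obtain ⟨w, hwW, hw0⟩ := W.ne_bot_iff.1 hW0
  have hf1 : finrank F W = 1 := by
    have : finrank F W ≠ 0 := by rw [Ne, Submodule.finrank_eq_zero]; exact hW0
    omega
  have hxw := fix_of_line (p := 2) hl hf1 hwW ((hmM.1 w).1 hwW)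
  have hww : hermForm 3 F q w w ≠ 0 := by
    obtain ⟨⟨z, hz, hzw⟩, -⟩ := hWn w hwW hw0
    obtain ⟨b, hb⟩ := (finrank_eq_one_iff_of_nonzero' (⟨w, hwW⟩ : W) (by
      intro h1
      exact hw0 (congrArg Subtype.val h1))).1 hf1 ⟨z, hz⟩
    have hb' : z = b • w := (congrArg Subtype.val hb).symm
    intro h
    apply hzw
    rw [hb', herm_smul_left, h, mul_zero]
  have hU : hperp q (Submodule.span F {w}) ≠ ⊥ := by
    intro hU
    have h1 := finrank_hperp_ge hF (Submodule.span F {w})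
    rw [hU, finrank_bot, add_zero] at h1
    have h2 : finrank F (Submodule.span F {w}) ≤ 1 := by
      have := finrank_span_le_card (R := F) ({w} : Set (Fin 3 → F))
      simpa using this
    omega
  obtain ⟨u, huU, hu0, hxu⟩ := exists_fixed (p := 2) hl hU (by
    intro v hv y hy
    obtain ⟨c, rfl⟩ := Submodule.mem_span_singleton.1 hy
    have h1 := hxG v (c • w)
    rw [Matrix.mulVec_smul, hxw] at h1
    rw [h1]
    exact hv _ hy)
  have huw : hermForm 3 F q u w = 0 := huU w (Submodule.mem_span_singleton_self w)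
  have key := sq_zero_of_fix (p := 2) hF hxG hl hww hxw hu0 huw hxu
  refine sq_eq_one_of_suHom hm ?_ h4
  apply Units.ext
  rw [Units.val_one, Units.val_pow_eq_pow_val, pow_two]
  apply Matrix.ext_of_mulVec_single
  intro i
  rw [← Matrix.mulVec_mulVec, Matrix.one_mulVec]
  have h1 := key (Pi.single i 1)
  rw [Matrix.mulVec_sub] at h1
  have h2 := congrArg (fun z => z + (x : Matrix (Fin 3) (Fin 3) F) *ᵥ (Pi.single i 1)) h1
  simp only [sub_add_cancel] at h2
  rw [← hx, h2]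
  funext j
  simp only [Pi.add_apply, Pi.sub_apply]
  have h3 : ((x : Matrix (Fin 3) (Fin 3) F) *ᵥ Pi.single i 1) j + ((x : Matrix (Fin 3) (Fin 3) F) *ᵥ Pi.single i 1) j = 0 :=
    CharTwo.add_self_eq_zero _
  have h4 : (Pi.single i (1 : F) : Fin 3 → F) j + (Pi.single i (1 : F) : Fin 3 → F) j = 0 := CharTwo.add_self_eq_zero _
  linear_combination h3 - h4

/-- **frames**, `q` even: no elements of order `4` -/
theorem dec_no_four (hF : Fintype.card F = q ^ 2) {M : Subgroup (PSU 3 F q)} {D : Fin 3 → Submodule F (Fin 3 → F)}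
    (hD : IsMDecomposition 1 D) (he : pre M ≤ decompositionStabilizer D) {g : PSU 3 F q} (hg : g ∈ M) :
    orderOf g ≠ 4 := by
  intro h4
  have : Fact (Nat.Prime 2) := ⟨Nat.prime_two⟩
  obtain ⟨m, hm, hmM, l, hl⟩ := exists_gl_lift (p := 2) hF hg (k := 2) (by
    rw [show (2 : ℕ) ^ 2 = 4 by norm_num, ← h4, pow_orderOf_eq_one])
  set x := suHom 3 F q m with hx
  obtain ⟨σ, hσ⟩ := he hmM
  have h6 : σ ^ 6 = 1 := by
    have h1 : σ ^ Fintype.card (Equiv.Perm (Fin 3)) = 1 := pow_card_eq_one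
    rwa [Fintype.card_perm, Fintype.card_fin] at h1
  have h7 := pow_map_lines hσ 6
  have h8 : x ^ 6 = 1 := by
    refine eq_one_of_lines (p := 2) (l := l) ?_ hD ?_
    · rw [← pow_mul, mul_comm, pow_mul, hl, one_pow]
    · intro i v hv
      have h9 := h7 i
      rw [h6, Equiv.Perm.one_apply] at h9
      rw [← Matrix.toLin'_apply, ← h9]
      exact Submodule.mem_map_of_mem hv
  have h9 : m ^ 6 = 1 := by
    apply suHom_injective
    rw [map_pow, ← hx, h8, map_one]
  have h10 : orderOf g ∣ 6 := orderOf_dvd_of_pow_eq_one (by rw [← hm, ← map_pow, h9, map_one])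
  rw [h4] at h10
  revert h10; norm_num

/-- **cubic fields**, `q` even: odd order -/
theorem field_odd {M : Subgroup (PSU 3 F q)} {K : Subalgebra F (Matrix (Fin 3) (Fin 3) F)} (hK : IsFieldSubalgebra 3 K)
    (he : pre M ≤ subalgebraNormalizer K) : ¬ 2 ∣ Nat.card M := by
  refine not_dvd_of_pre Nat.prime_two fun x hx hx2 => ?_
  have h1 := Cfsg.Agent.H907.Mx.cube_mem hK (he hx)
  rw [pow_succ, hx2, one_mul] at h1
  have h2 : (x : Matrix (Fin 3) (Fin 3) F) - 1 ∈ K := K.sub_mem h1 K.one_mem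
  have h3 : ((x : Matrix (Fin 3) (Fin 3) F) - 1) * ((x : Matrix (Fin 3) (Fin 3) F) - 1) = 0 := by
    have h4 : (x : Matrix (Fin 3) (Fin 3) F) * (x : Matrix (Fin 3) (Fin 3) F) = 1 := by
      rw [← Units.val_mul, ← pow_two, hx2, Units.val_one]
    have h5 : ((x : Matrix (Fin 3) (Fin 3) F) - 1) * ((x : Matrix (Fin 3) (Fin 3) F) - 1) =
        (x : Matrix (Fin 3) (Fin 3) F) * (x : Matrix (Fin 3) (Fin 3) F) + 1 -
          ((x : Matrix (Fin 3) (Fin 3) F) + (x : Matrix (Fin 3) (Fin 3) F)) := by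
      noncomm_ring
    rw [h5, h4, CharTwo.add_self_eq_zero, CharTwo.add_self_eq_zero, sub_zero]
  by_contra hx1
  have h4 : (x : Matrix (Fin 3) (Fin 3) F) - 1 ≠ 0 := by
    intro h5
    exact hx1 (Units.ext (by rw [Units.val_one]; exact sub_eq_zero.1 h5))
  obtain ⟨y, -, hy⟩ := hK.inv _ h2 h4
  apply h4
  calc (x : Matrix (Fin 3) (Fin 3) F) - 1 = ((x : Matrix (Fin 3) (Fin 3) F) - 1) *
        (((x : Matrix (Fin 3) (Fin 3) F) - 1) * y) := by rw [hy, mul_one]
    _ = 0 := by rw [← mul_assoc, h3, zero_mul]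

end Even

section Odd

variable {F : Type*} [Field F] [Fintype F] {q p : ℕ} [hp : Fact p.Prime] [CharP F p]

omit hp in
omit [CharP F p] in
/-- **nonisotropic points**: the order -/
theorem point_card (hF : Fintype.card F = q ^ 2) {M : Subgroup (PSU 3 F q)} {W : Submodule F (Fin 3 → F)}
    (hW0 : W ≠ ⊥) (hWn : IsNondegenerateOn (hermForm 3 F q) W) (hW3 : 2 * finrank F W < 3)
    (he : pre M = subspaceStabilizer W ⊓ SUg 3 F q) : Nat.card M ∣ (q + 1) * (q * ((q + 1) * (q ^ 2 - 1))) := by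
  have hf1 : finrank F W = 1 := by
    have : finrank F W ≠ 0 := by rw [Ne, Submodule.finrank_eq_zero]; exact hW0
    omega
  obtain ⟨e⟩ := Cfsg.Agent.S0837.result hF 3 1 (by norm_num) W hf1 (by
    intro u hu h
    by_contra hu0
    obtain ⟨-, ⟨z, hz, hz0⟩⟩ := hWn u hu hu0
    exact hz0 (h z hz))
  have h1 := Cfsg.Agent.S0277.result hF 1
  have h2 := Cfsg.Agent.S0277.result hF 2
  have h3 : Nat.card (GU 1 F q) = q + 1 := by rw [h1]; simp
  have h4 : Nat.card (GU 2 F q) = q * ((q + 1) * (q ^ 2 - 1)) := by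
    rw [h2]
    norm_num [Finset.prod_range_succ]
  have h5 := Nat.card_congr e.toEquiv
  rw [Nat.card_prod, h3, show 3 - 1 = 2 by norm_num, h4] at h5
  refine (card_dvd_pre M).trans ?_
  rw [← h5]
  set S := Cfsg.stabilizing (Cfsg.glToMat (Fin 3) F) (W : Set (Fin 3 → F)) with hS
  have h6 : pre M ≤ S ⊓ GU 3 F q := by
    rw [he]
    intro x hx
    exact ⟨hx.1, hx.2.1⟩
  have h7 : Nat.card (S.subgroupOf (GU 3 F q)) = Nat.card (S ⊓ GU 3 F q : Subgroup (GL (Fin 3) F)) := by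
    rw [← Subgroup.inf_subgroupOf_right]
    exact Nat.card_congr (Subgroup.subgroupOfEquivOfLe inf_le_right).toEquiv
  rw [h7]
  exact Subgroup.card_dvd_of_le h6

/-- **frames**, `p ≥ 3`: `p²` does not divide the order -/
theorem dec_not_sq (hp3 : 3 ≤ p) {M : Subgroup (PSU 3 F q)} {D : Fin 3 → Submodule F (Fin 3 → F)}
    (hD : IsMDecomposition 1 D) (he : pre M ≤ decompositionStabilizer D) : ¬ p ^ 2 ∣ Nat.card M := by
  intro hd
  obtain ⟨K, hK⟩ := Sylow.exists_subgroup_card_pow_prime (G := pre M) p (hd.trans (card_dvd_pre M))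
  have hx : ∀ x : K, ∃ σ : Equiv.Perm (Fin 3), ∀ i, (D i).map (Matrix.toLin' (((x : pre M) : GL (Fin 3) F) :
      Matrix (Fin 3) (Fin 3) F)) = D (σ i) := fun x => he (x : pre M).2
  choose σ hσ using hx
  have hinj : Function.Injective σ := by
    intro x y hxy
    have h1 : ((x⁻¹ * y : K) : pre M) = 1 := by
      apply Subtype.ext
      refine eq_one_of_lines (p := p) (l := 2) ?_ hD ?_
      · have h2 : (x⁻¹ * y) ^ p ^ 2 = 1 := by rw [← hK]; exact pow_card_eq_one'
        have h3 := congrArg (fun z : K => ((z : pre M) : GL (Fin 3) F)) h2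
        simpa using h3
      · intro i v hv
        have h2 : (((y : pre M) : GL (Fin 3) F) : Matrix (Fin 3) (Fin 3) F) *ᵥ v ∈ D (σ y i) := by
          rw [← hσ y i, ← Matrix.toLin'_apply]
          exact Submodule.mem_map_of_mem hv
        rw [← hxy, ← hσ x i] at h2
        obtain ⟨z, hz, hz2⟩ := h2
        rw [Matrix.toLin'_apply] at hz2
        have h3 : (((x⁻¹ * y : K) : pre M) : GL (Fin 3) F) = ((x : pre M) : GL (Fin 3) F)⁻¹ * ((y : pre M) : GL (Fin 3) F) := rfl
        rw [h3, Units.val_mul, ← Matrix.mulVec_mulVec, ← hz2, Matrix.mulVec_mulVec, ← Units.val_mul, inv_mul_cancel,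
          Units.val_one, Matrix.one_mulVec]
        exact hz
    have h2 : x⁻¹ * y = 1 := Subtype.ext h1
    rw [inv_mul_eq_one] at h2
    exact h2
  have h3 := Nat.card_le_card_of_injective σ hinj
  rw [hK, Nat.card_eq_fintype_card (α := Equiv.Perm (Fin 3)), Fintype.card_perm, Fintype.card_fin] at h3
  have : 3 ^ 2 ≤ p ^ 2 := Nat.pow_le_pow_left hp3 2
  have h6 : Nat.factorial 3 = 6 := rfl
  omega

end Odd

end Cfsg.Agent.H322.Der
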