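import Cfsg.Agent.H322.Der.UGeo
import Cfsg.Agent.S0243
import Cfsg.Agent.H907.MxRes2
import Cfsg.Agent.StandardComponent.AltAut
import Cfsg.Agent.H824.ProdLem

/-!
# `Row` for `PSU₃(3)`, `PSU₃(5)`: the residual class (helper322, task 2401)
-/

set_option autoImplicit false

namespace Cfsg.Agent.H322.Der

open Cfsg Cfsg.Geo Cfsg.Agent.H439.Der Cfsg.Agent.H918 Module Subgroup
  Cfsg.Agent.ClassicalGeometry.PSUAutBasic Cfsg.Agent.LieClassical.HermSiegel
  Cfsg.Agent.LieClassical.HermBasic Cfsg.Agent.LieClassical.SUBasic Cfsg.Agent.H907.Mx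
open scoped MatrixGroups Matrix

section Embed

variable {F : Type*} [Field F] [Fintype F] {q : ℕ}

theorem mem_scalars_iff_center (hF : Fintype.card F = q ^ 2) {m : SU 3 F q} :
    suHom 3 F q m ∈ scalars (Fin 3) F ↔ pr 3 F q m = 1 := by
  rw [mem_scalars_iff, pr_eq_one_iff]
  constructor
  · rintro ⟨c, hc⟩
    refine mem_center_of_act (c := (c : F)) fun v => ?_
    have h1 : mat m = (c : F) • (1 : Matrix (Fin 3) (Fin 3) F) := hc
    rw [act_def, h1, Matrix.smul_mulVec, Matrix.one_mulVec]
  · intro h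
    obtain ⟨c, hc0, -, hc⟩ := exists_scalar_of_mem_center hF le_rfl h
    refine ⟨Units.mk0 c hc0, ?_⟩
    apply Matrix.ext_of_mulVec_single
    intro i
    have h1 := hc (Pi.single i 1)
    rw [Units.val_mk0, Matrix.smul_mulVec, Matrix.one_mulVec]
    exact h1

/-- a maximal subgroup in the residual class embeds in the automorphism group of its socle -/
theorem exists_embed (hF : Fintype.card F = q ^ 2) {M : Subgroup (PSU 3 F q)} {P : Subgroup (GL (Fin 3) F)}
    (hP : IsResidualCore (pre M) P) : ∃ e : M →* MulAut (PQ P), Function.Injective e := by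
  let G := M.comap (pr 3 F q)
  let f : G →* M := (pr 3 F q).subgroupComap M
  have hf : Function.Surjective f := MonoidHom.subgroupComap_surjective_of_surjective _ _ pr_surjective
  let g : G →* MulAut (PQ P) := (cQ hP).comp ((suHom 3 F q).subgroupMap G)
  have hker : f.ker = g.ker := by
    ext x
    rw [MonoidHom.mem_ker, MonoidHom.mem_ker]
    have h1 : f x = 1 ↔ pr 3 F q (x : SU 3 F q) = 1 := by
      rw [← Subtype.coe_inj]; rfl
    have h2 : g x = 1 ↔ suHom 3 F q (x : SU 3 F q) ∈ scalars (Fin 3) F := by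
      show cQ hP _ = 1 ↔ _
      rw [cQ_ker]; rfl
    rw [h1, h2, mem_scalars_iff_center hF]
  let e1 : M ≃* G ⧸ f.ker := (QuotientGroup.quotientKerEquivOfSurjective f hf).symm
  let e2 : G ⧸ f.ker ≃* G ⧸ g.ker := QuotientGroup.quotientMulEquivOfEq hker
  refine ⟨(QuotientGroup.kerLift g).comp ((e2.toMonoidHom).comp e1.toMonoidHom), ?_⟩
  intro a b hab
  have h1 : e2 (e1 a) = e2 (e1 b) := QuotientGroup.kerLift_injective g hab
  exact e1.injective (e2.injective h1)

theorem exists_embed' (hF : Fintype.card F = q ^ 2) {M : Subgroup (PSU 3 F q)} {P : Subgroup (GL (Fin 3) F)}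
    (hP : IsResidualCore (pre M) P) {A : Type*} [Group A] (i : PQ P ≃* A) : ∃ e : M →* MulAut A, Function.Injective e := by
  obtain ⟨e, he⟩ := exists_embed hF hP
  refine ⟨(MulAut.congr i).toMonoidHom.comp e, ?_⟩
  exact (MulAut.congr i).injective.comp he

end Embed

section L32

set_option maxRecDepth 100000
set_option maxHeartbeats 4000000 in
theorem gl32 : ∀ A : Matrix (Fin 3) (Fin 3) (ZMod 2), A * A * A * (A * A * A) = 1 → A * A = 1 ∨ A * A * A = 1 := by
  decide +kernel

theorem psl32_no_six (s : Matrix.ProjectiveSpecialLinearGroup (Fin 3) (ZMod 2)) : orderOf s ≠ 6 := by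
  intro h6
  obtain ⟨A, rfl⟩ := QuotientGroup.mk_surjective s
  have h0 : (QuotientGroup.mk (A ^ 6) : Matrix.ProjectiveSpecialLinearGroup (Fin 3) (ZMod 2)) = 1 := by
    rw [QuotientGroup.mk_pow, ← h6, pow_orderOf_eq_one]
  have h1 : A ^ 6 ∈ Subgroup.center (Matrix.SpecialLinearGroup (Fin 3) (ZMod 2)) := (QuotientGroup.eq_one_iff _).1 h0
  rw [Matrix.SpecialLinearGroup.mem_center_iff] at h1
  obtain ⟨r, hr, h⟩ := h1
  have hr1 : r = 1 := by
    rw [Fintype.card_fin] at hr
    have key : ∀ r : ZMod 2, r ^ 3 = 1 → r = 1 := by decide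
    exact key r hr
  rw [hr1, map_one] at h
  have h2 : (A : Matrix (Fin 3) (Fin 3) (ZMod 2)) * A * A * (A * A * A) = 1 := by
    rw [h, Matrix.SpecialLinearGroup.coe_pow]
    simp only [pow_succ, pow_zero, one_mul, mul_assoc]
  rcases gl32 _ h2 with h3 | h3
  · have h4 : (QuotientGroup.mk A : Matrix.ProjectiveSpecialLinearGroup (Fin 3) (ZMod 2)) ^ 2 = 1 := by
      have h5 : A ^ 2 = 1 := by
        apply Subtype.ext
        rw [Matrix.SpecialLinearGroup.coe_pow, pow_two, h3]
        rfl
      rw [← QuotientGroup.mk_pow, h5]; rfl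
    have := Nat.le_of_dvd (by norm_num) (orderOf_dvd_of_pow_eq_one h4)
    omega
  · have h4 : (QuotientGroup.mk A : Matrix.ProjectiveSpecialLinearGroup (Fin 3) (ZMod 2)) ^ 3 = 1 := by
      have h5 : A ^ 3 = 1 := by
        apply Subtype.ext
        rw [Matrix.SpecialLinearGroup.coe_pow, pow_succ, pow_two, h3]
        rfl
      rw [← QuotientGroup.mk_pow, h5]; rfl
    have := Nat.le_of_dvd (by norm_num) (orderOf_dvd_of_pow_eq_one h4)
    omega

theorem card_psl32 : Nat.card (Matrix.ProjectiveSpecialLinearGroup (Fin 3) (ZMod 2)) = 168 := by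
  have h := Cfsg.Agent.S0243.result (F := ZMod 2) rfl 3 (by norm_num)
  rw [ZMod.card, Fin.prod_univ_three] at h
  norm_num at h
  rw [Nat.card_eq_fintype_card, h]

theorem center_bot {S : Type*} [Group S] (h : IsSimpleGroup S) (h2 : ¬ IsMulCommutative S) : center S = ⊥ := by
  rcases h.eq_bot_or_eq_top_of_normal (center S) inferInstance with h3 | h3
  · exact h3
  · exact absurd ⟨⟨fun a b => by
      have : a ∈ center S := by rw [h3]; trivial
      exact (mem_center_iff.1 this b).symm⟩⟩ h2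

theorem l32_no_twelve {F : Type*} [Field F] [Fintype F] {q : ℕ} (hF : Fintype.card F = q ^ 2)
    {M : Subgroup (PSU 3 F q)} {P : Subgroup (GL (Fin 3) F)} (hP : IsResidualCore (pre M) P)
    (i : PQ P ≃* Matrix.ProjectiveSpecialLinearGroup (Fin 3) (ZMod 2)) {g : PSU 3 F q} (hg : g ∈ M) :
    orderOf g ≠ 12 := by
  intro h12
  obtain ⟨e, he⟩ := exists_embed hF hP
  set α := e ⟨g, hg⟩ with hα
  have hαo : orderOf α = 12 := by rw [hα, orderOf_injective e he, Subgroup.orderOf_mk, h12]
  have hconj : Function.Injective (MulAut.conj : PQ P →* MulAut (PQ P)) := by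
    rw [injective_iff_map_eq_one]
    intro s hs
    have h1 : s ∈ center (PQ P) := by
      rw [mem_center_iff]
      intro t
      have h2 : s * t * s⁻¹ = t := by
        have := congrArg (fun f : MulAut (PQ P) => f t) hs
        exact this
      exact (mul_inv_eq_iff_eq_mul.1 h2).symm
    rw [center_bot hP.simple hP.nonabelian] at h1
    exact mem_bot.1 h1
  have hcI : Nat.card (MulAut.conj : PQ P →* MulAut (PQ P)).range = 168 := by
    rw [Nat.card_congr (MonoidHom.ofInjective hconj).symm.toEquiv, Nat.card_congr i.toEquiv, card_psl32]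
  have hcA : Nat.card (MulAut (PQ P)) ∣ 336 := by
    rw [Nat.card_congr (MulAut.congr i).toEquiv]
    exact card_aut_l32
  have hidx : (MulAut.conj : PQ P →* MulAut (PQ P)).range.index ∣ 2 := by
    have h1 := (MulAut.conj : PQ P →* MulAut (PQ P)).range.card_mul_index
    rw [hcI] at h1
    rw [← h1] at hcA
    exact Nat.dvd_of_mul_dvd_mul_left (by norm_num : 0 < 168) (by norm_num; exact hcA)
  have h2 : α ^ 2 ∈ (MulAut.conj : PQ P →* MulAut (PQ P)).range := by
    rcases (Nat.dvd_prime Nat.prime_two).1 hidx with h3 | h3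
    · rw [Subgroup.index_eq_one.1 h3]; trivial
    · exact Subgroup.sq_mem_of_index_two h3 α
  obtain ⟨s, hs⟩ := h2
  have hs6 : orderOf s = 6 := by
    rw [← orderOf_injective _ hconj s, hs, orderOf_pow, hαo]
    rfl
  apply psl32_no_six (i s)
  rw [MulEquiv.orderOf_eq, hs6]

end L32

section A7

theorem perm_no_eight (σ : Equiv.Perm (Fin 7)) : orderOf σ ≠ 8 := by
  intro h8
  have h1 : orderOf σ ∣ 4 := by
    rw [← Equiv.Perm.lcm_cycleType, Multiset.lcm_dvd]
    intro n hn
    have h2 : n ∣ 8 := h8 ▸ Equiv.Perm.dvd_of_mem_cycleType hn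
    have h3 : n ≤ 7 := (Equiv.Perm.le_card_support_of_mem_cycleType hn).trans
      ((Finset.card_le_univ _).trans (by rw [Fintype.card_fin]))
    interval_cases n <;> revert h2 <;> decide
  rw [h8] at h1
  revert h1; decide

theorem a7_no_eight {F : Type*} [Field F] [Fintype F] {q : ℕ} (hF : Fintype.card F = q ^ 2)
    {M : Subgroup (PSU 3 F q)} {P : Subgroup (GL (Fin 3) F)} (hP : IsResidualCore (pre M) P)
    (i : PQ P ≃* alternatingGroup (Fin 7)) {g : PSU 3 F q} (hg : g ∈ M) : orderOf g ≠ 8 := by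
  intro h8
  obtain ⟨e, he⟩ := exists_embed' hF hP i
  obtain ⟨ψ, hψ⟩ := Cfsg.Agent.StandardComponent.AltAut.exists_autHom 7 le_rfl
  have hinj : Function.Injective ψ := by
    rw [injective_iff_map_eq_one]
    intro e he
    ext x : 2
    rw [hψ, he]
    simp
  apply perm_no_eight (ψ (e ⟨g, hg⟩))
  rw [orderOf_injective ψ hinj, orderOf_injective e he, Subgroup.orderOf_mk, h8]

theorem card_dvd_aut {F : Type*} [Field F] [Fintype F] {q : ℕ} (hF : Fintype.card F = q ^ 2)
    {M : Subgroup (PSU 3 F q)} {P : Subgroup (GL (Fin 3) F)} (hP : IsResidualCore (pre M) P) {A : Type*} [Group A]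
    (i : PQ P ≃* A) : Nat.card M ∣ Nat.card (MulAut A) := by
  obtain ⟨e, he⟩ := exists_embed' hF hP i
  exact Subgroup.card_dvd_of_injective e he

end A7

end Cfsg.Agent.H322.Der
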