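import Cfsg.Agent.H322.Der.UGeo

/-!
# `Row` for `PSU₃(8)`: the subfield case (helper322, task 2401)
-/

set_option autoImplicit false

namespace Cfsg.Agent.H322.Der

open Cfsg Cfsg.Geo Cfsg.Agent.H439.Der Cfsg.Agent.H918 Module Subgroup
  Cfsg.Agent.ClassicalGeometry.PSUAutBasic Cfsg.Agent.LieClassical.HermSiegel
  Cfsg.Agent.LieClassical.HermBasic Cfsg.Agent.LieClassical.SUBasic
open scoped MatrixGroups Matrix

section Trace

variable {F : Type*} [Field F]

theorem trace_mul_self_char_two [CharP F 2] (M : Matrix (Fin 3) (Fin 3) F) : (M * M).trace = M.trace ^ 2 := by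
  have h2 : (2 : F) = 0 := CharTwo.two_eq_zero
  simp only [Matrix.trace_fin_three, Matrix.mul_apply, Fin.sum_univ_three]
  linear_combination (M 0 1 * M 1 0 + M 0 2 * M 2 0 + M 1 2 * M 2 1 - M 0 0 * M 1 1 - M 0 0 * M 2 2 - M 1 1 * M 2 2) * h2

theorem det_sub_one_three (M : Matrix (Fin 3) (Fin 3) F) :
    (M - 1).det = M.det - M.adjugate.trace + M.trace - 1 := by
  simp only [Matrix.det_fin_three, Matrix.adjugate_fin_three, Matrix.trace_fin_three, Matrix.sub_apply,
    Matrix.one_apply_eq, Matrix.of_apply, Matrix.cons_val', Matrix.cons_val_zero, Matrix.cons_val_one,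
    Matrix.cons_val_fin_one, Matrix.empty_val']
  simp
  ring

variable [Fintype F] {q : ℕ}

/-- the entries of the inverse of a unitary matrix -/
theorem entry_inv (hF : Fintype.card F = q ^ 2) {y : GL (Fin 3) F} (hy : ∀ u v, hermForm 3 F q
    ((y : Matrix (Fin 3) (Fin 3) F) *ᵥ u) ((y : Matrix (Fin 3) (Fin 3) F) *ᵥ v) = hermForm 3 F q u v) (i j : Fin 3) :
    (y : Matrix (Fin 3) (Fin 3) F) i j = (((y⁻¹ : GL (Fin 3) F) : Matrix (Fin 3) (Fin 3) F) j i) ^ q := by
  have h1 := hy (Pi.single j 1) (((y⁻¹ : GL (Fin 3) F) : Matrix (Fin 3) (Fin 3) F) *ᵥ Pi.single i 1)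
  rw [Matrix.mulVec_mulVec, ← Units.val_mul, mul_inv_cancel, Units.val_one, Matrix.one_mulVec,
    herm_single_right hF, herm_single_left, one_pow, mul_one, one_mul] at h1
  simpa using h1

theorem trace_inv (hF : Fintype.card F = q ^ 2) {y : GL (Fin 3) F} (hy : ∀ u v, hermForm 3 F q
    ((y : Matrix (Fin 3) (Fin 3) F) *ᵥ u) ((y : Matrix (Fin 3) (Fin 3) F) *ᵥ v) = hermForm 3 F q u v) :
    (y : Matrix (Fin 3) (Fin 3) F).trace = (((y⁻¹ : GL (Fin 3) F) : Matrix (Fin 3) (Fin 3) F).trace) ^ q := by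
  rw [Matrix.trace, Matrix.trace, sum_pow_q hF]
  exact Finset.sum_congr rfl fun i _ => entry_inv hF hy i i

/-- elements of order `7` of `SU₃(8)` have a fixed vector -/
theorem det_sub_one_zero [CharP F 2] (hF : Fintype.card F = 8 ^ 2) {y : GL (Fin 3) F} (hy : y ∈ SUg 3 F 8)
    (h7 : y ^ 7 = 1) : ((y : Matrix (Fin 3) (Fin 3) F) - 1).det = 0 := by
  obtain ⟨hy1, hy2⟩ := mem_SUg.1 hy
  set Y : Matrix (Fin 3) (Fin 3) F := (y : Matrix (Fin 3) (Fin 3) F) with hY
  have h1 : ((y⁻¹ : GL (Fin 3) F) : Matrix (Fin 3) (Fin 3) F) = Y.adjugate := by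
    rw [Matrix.coe_units_inv, Matrix.inv_def, ← hY, hy2, Ring.inverse_one, one_smul]
  have h2 : Y.trace = (Y.adjugate.trace) ^ 8 := by
    rw [← h1]; exact trace_inv hF hy1
  have h3 : Y.trace ^ 8 = Y.trace := by
    have e1 := trace_mul_self_char_two Y
    have e2 := trace_mul_self_char_two (Y * Y)
    have e3 := trace_mul_self_char_two (Y * Y * (Y * Y))
    have e4 : Y * Y * (Y * Y) * (Y * Y * (Y * Y)) = Y := by
      have h8 : y ^ 8 = y := by rw [pow_succ, h7, one_mul]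
      have h9 := congrArg (fun z : GL (Fin 3) F => (z : Matrix (Fin 3) (Fin 3) F)) h8
      simp only [Units.val_pow_eq_pow_val] at h9
      rw [← hY] at h9
      calc Y * Y * (Y * Y) * (Y * Y * (Y * Y)) = Y ^ 8 := by simp only [pow_succ, pow_zero, one_mul, mul_assoc]
        _ = Y := h9
    rw [e4, e2, e1] at e3
    have e5 : Y.trace ^ 8 = ((Y.trace ^ 2) ^ 2) ^ 2 := by ring
    rw [e5]
    exact e3.symm
  have h4 : Y.adjugate.trace = Y.trace := by
    apply (pow_q_inj hF).1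
    rw [← h2, h3]
  rw [det_sub_one_three, hy2, h4]
  ring

theorem order_four : orderOf ((4 : ℕ) : ZMod 7) = 3 := by
  have : Fact (Nat.Prime 3) := ⟨by norm_num⟩
  exact orderOf_eq_prime (by decide) (by decide)

/-- **subfields**, `q = 8` -/
theorem subfield_no_seven [CharP F 2] (hF : Fintype.card F = 8 ^ 2) {M : Subgroup (PSU 3 F 8)} {F₀ : Subfield F}
    (h0 : Nat.card F₀ = 4) {P : GL (Fin 3) F} (he : pre M ≤ subfieldSubgroup F₀ P) : ¬ 7 ∣ Nat.card M := by
  refine not_dvd_of_pre (by norm_num) fun x hx hx7 => ?_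
  by_contra hx1
  obtain ⟨hxG, hxd⟩ := mem_SUg.1 (pre_le hx)
  obtain ⟨y, hy, hyx⟩ := he hx
  rw [SetLike.mem_coe, Subgroup.mem_sup_of_normal_right] at hy
  obtain ⟨_, ⟨a, rfl⟩, z, hz, rfl⟩ := hy
  obtain ⟨c, hc'⟩ := (mem_scalars_iff z).1 hz
  have hcomm : ∀ g : GL (Fin 3) F, g * z = z * g := by
    intro g
    apply Units.ext
    rw [Units.val_mul, Units.val_mul, hc']
    simp
  set A : GL (Fin 3) F := Matrix.GeneralLinearGroup.map (F₀.subtype : F₀ →+* F) a with hA
  have hyx' : P * (A * z) * P⁻¹ = x := hyx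
  -- determinants
  have hdA : (A : Matrix (Fin 3) (Fin 3) F).det = F₀.subtype (a : Matrix (Fin 3) (Fin 3) F₀).det := by
    rw [hA, RingHom.map_det]
    rfl
  have hda : (a : Matrix (Fin 3) (Fin 3) F₀).det ^ 3 = 1 := by
    have hfin : Finite F₀ := inferInstance
    have := Fintype.ofFinite F₀
    have h1 := FiniteField.pow_card_sub_one_eq_one (a : Matrix (Fin 3) (Fin 3) F₀).det (by
      have := (Matrix.GeneralLinearGroup.det a).ne_zero
      simpa using this)
    rw [← Nat.card_eq_fintype_card, h0] at h1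
    exact h1
  have hdet : (A : Matrix (Fin 3) (Fin 3) F).det * (c : F) ^ 3 = 1 := by
    have h1 : (x : Matrix (Fin 3) (Fin 3) F).det = ((A * z : GL (Fin 3) F) : Matrix (Fin 3) (Fin 3) F).det := by
      rw [← hyx', Units.val_mul, Units.val_mul, Matrix.det_mul, Matrix.det_mul, mul_right_comm, ← Matrix.det_mul,
        ← Units.val_mul, mul_inv_cancel, Units.val_one, Matrix.det_one, one_mul]
    rw [hxd, Units.val_mul, Matrix.det_mul, hc', Matrix.det_smul, Matrix.det_one, mul_one, Fintype.card_fin] at h1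
    exact h1.symm
  have hc9 : (c : F) ^ 9 = 1 := by
    have h1 : ((A : Matrix (Fin 3) (Fin 3) F).det * (c : F) ^ 3) ^ 3 = 1 := by rw [hdet, one_pow]
    rw [mul_pow, hdA, ← map_pow, hda, map_one, one_mul, ← pow_mul] at h1
    exact h1
  have hz9 : z ^ 9 = 1 := by
    apply Units.ext
    rw [Units.val_pow_eq_pow_val, hc', _root_.smul_pow, hc9, one_pow, one_smul, Units.val_one]
  have hx2 : P * A ^ 9 * P⁻¹ = x ^ 2 := by
    have h1 : x ^ 9 = x ^ 2 := by
      rw [show 9 = 7 + 2 by norm_num, pow_add, hx7, one_mul]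
    rw [← h1, ← hyx', conj_pow, (show Commute A z from hcomm A).mul_pow, hz9, mul_one]
  -- `b = a ^ 9`
  set b : GL (Fin 3) F₀ := a ^ 9 with hb
  have hBA : Matrix.GeneralLinearGroup.map (F₀.subtype : F₀ →+* F) b = A ^ 9 := by rw [hb, map_pow]
  have hmapinj : Function.Injective (Matrix.GeneralLinearGroup.map (n := Fin 3) (F₀.subtype : F₀ →+* F)) := by
    intro s t hst
    apply Units.ext
    ext i j
    have h1 := congrArg (fun g : GL (Fin 3) F => (g : Matrix (Fin 3) (Fin 3) F) i j) hst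
    exact h1
  have hb7 : b ^ 7 = 1 := by
    apply hmapinj
    rw [map_pow, hBA, map_one]
    have h1 : (P * A ^ 9 * P⁻¹) ^ 7 = 1 := by rw [hx2, ← pow_mul, mul_comm, pow_mul, hx7, one_pow]
    rw [conj_pow, mul_inv_eq_one] at h1
    exact mul_left_cancel (h1.trans (mul_one P).symm)
  have hb1 : b ≠ 1 := by
    intro h1
    rw [h1, map_one] at hBA
    rw [← hBA, mul_one, mul_inv_cancel] at hx2
    have h3 : x ^ 7 = x := by
      rw [show 7 = 2 * 3 + 1 by norm_num, pow_succ, pow_mul, ← hx2, one_pow, one_mul]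
    exact hx1 (h3 ▸ hx7)
  have hF7 : Fact (Nat.Prime 7) := ⟨by norm_num⟩
  have ho : orderOf ((Nat.card F₀ : ℕ) : ZMod 7) = 3 := by
    rw [h0]
    exact order_four
  have hfpf := Cfsg.Agent.H947.Sq.fpf_mat (K := F₀) ho (X := (b : Matrix (Fin 3) (Fin 3) F₀)) (by
    rw [← Units.val_pow_eq_pow_val, hb7, Units.val_one]) (by
    intro h1
    exact hb1 (Units.ext (by rw [h1, Units.val_one])))
  have hdb : ((b : Matrix (Fin 3) (Fin 3) F₀) - 1).det ≠ 0 := by
    intro h1
    obtain ⟨v, hv0, hv⟩ := Matrix.exists_mulVec_eq_zero_iff.2 h1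
    rw [Matrix.sub_mulVec, Matrix.one_mulVec, sub_eq_zero] at hv
    exact hv0 (hfpf v hv)
  have hdB : (((A ^ 9 : GL (Fin 3) F) : Matrix (Fin 3) (Fin 3) F) - 1).det ≠ 0 := by
    have h1 : ((A ^ 9 : GL (Fin 3) F) : Matrix (Fin 3) (Fin 3) F) - 1 =
        (F₀.subtype : F₀ →+* F).mapMatrix ((b : Matrix (Fin 3) (Fin 3) F₀) - 1) := by
      rw [← hBA, map_sub, map_one]
      rfl
    rw [h1, ← RingHom.map_det]
    intro h2
    exact hdb ((map_eq_zero_iff _ (F₀.subtype : F₀ →+* F).injective).1 h2)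
  apply hdB
  have h1 := det_sub_one_zero hF (y := x ^ 2) ((SUg 3 F 8).pow_mem (pre_le hx) 2) (by
    rw [← pow_mul, mul_comm, pow_mul, hx7, one_pow])
  have h2 : ((x ^ 2 : GL (Fin 3) F) : Matrix (Fin 3) (Fin 3) F) - 1 =
      (P : Matrix (Fin 3) (Fin 3) F) * (((A ^ 9 : GL (Fin 3) F) : Matrix (Fin 3) (Fin 3) F) - 1) *
        ((P⁻¹ : GL (Fin 3) F) : Matrix (Fin 3) (Fin 3) F) := by
    rw [← hx2, mul_sub, sub_mul, mul_one, Units.val_mul, Units.val_mul, ← Units.val_mul P P⁻¹, mul_inv_cancel,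
      Units.val_one]
  rw [h2, Matrix.det_mul, Matrix.det_mul, mul_right_comm, ← Matrix.det_mul, ← Units.val_mul, mul_inv_cancel,
    Units.val_one, Matrix.det_one, one_mul] at h1
  exact h1

end Trace

end Cfsg.Agent.H322.Der
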