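import Cfsg.Agent.H322.Der.USub
import Cfsg.Agent.H322.Der.URes
import Cfsg.Agent.H322.Der.UElt

/-!
# `Row (PSU₃(q))`, `q = 3, 4, 5, 8` (helper322, task 2401)

* `row_u33`, `row_u34`, `row_u35`, `row_u38`
-/

set_option autoImplicit false

namespace Cfsg.Agent.H322.Der

open Cfsg Cfsg.Geo Cfsg.Agent.H439.Der Cfsg.Agent.H918 Module Subgroup
  Cfsg.Agent.ClassicalGeometry.PSUAutBasic Cfsg.Agent.LieClassical.HermSiegel
  Cfsg.Agent.LieClassical.HermBasic Cfsg.Agent.LieClassical.SUBasic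
open scoped MatrixGroups Matrix

theorem no_odd_root {N s r : ℕ} (hN : N = 9 ∨ N = 16 ∨ N = 25) (hr : r.Prime) (ho : Odd r) (h : N = s ^ r) : False := by
  have hr3 : 3 ≤ r := by
    have := hr.two_le
    rcases ho with ⟨k, hk⟩
    omega
  have hs2 : 2 ≤ s := by
    rcases s with _ | _ | s
    · rw [zero_pow hr.ne_zero] at h; omega
    · rw [zero_add, one_pow] at h; omega
    · omega
  have h1 : 2 ^ r ≤ s ^ r := Nat.pow_le_pow_left hs2 r
  have hr4 : r < 5 := by
    by_contra hlt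
    push Not at hlt
    have h2 : 2 ^ 5 ≤ 2 ^ r := Nat.pow_le_pow_right (by norm_num) hlt
    omega
  have hr' : r = 3 := by
    rcases ho with ⟨k, hk⟩
    omega
  subst hr'
  have hs3 : s < 3 := by
    by_contra hlt
    push Not at hlt
    have h2 : 3 ^ 3 ≤ s ^ 3 := Nat.pow_le_pow_left hlt 3
    omega
  have hs' : s = 2 := by omega
  subst hs'
  omega

theorem root_64 {s r : ℕ} (hr : r.Prime) (ho : Odd r) (h : 8 ^ 2 = s ^ r) : s = 4 := by
  have hr3 : 3 ≤ r := by
    have := hr.two_le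
    rcases ho with ⟨k, hk⟩
    omega
  have hs2 : 2 ≤ s := by
    rcases s with _ | _ | s
    · rw [zero_pow hr.ne_zero] at h; omega
    · rw [zero_add, one_pow] at h; omega
    · omega
  have h1 : 2 ^ r ≤ s ^ r := Nat.pow_le_pow_left hs2 r
  have hr4 : r < 7 := by
    by_contra hlt
    push Not at hlt
    have h2 : 2 ^ 7 ≤ 2 ^ r := Nat.pow_le_pow_right (by norm_num) hlt
    omega
  have hr' : r = 3 ∨ r = 5 := by
    rcases ho with ⟨k, hk⟩
    omega
  have hs5 : s < 5 := by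
    by_contra hlt
    push Not at hlt
    have h2 : 5 ^ 3 ≤ 5 ^ r := Nat.pow_le_pow_right (by norm_num) hr3
    have h3 : 5 ^ r ≤ s ^ r := Nat.pow_le_pow_left hlt r
    omega
  rcases hr' with rfl | rfl <;> interval_cases s <;> omega

section General

variable {F : Type*} [Field F] [Fintype F] {q : ℕ}

/-- the prime `r` does not divide the order of the geometric subgroups -/
theorem r_point {p n r : ℕ} (h : Cfsg.Agent.H947.El.PN F p n q r) {M : Subgroup (PSU 3 F q)}
    {W : Submodule F (Fin 3 → F)} (hW0 : W ≠ ⊥) (hW3 : 2 * finrank F W < 3) (he : pre M ≤ subspaceStabilizer W) :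
    ¬ r ∣ Nat.card M := by
  refine not_dvd_of_pre h.pr fun x hx hxr => ?_
  by_contra hx1
  refine h.no_sub (X := (x : Matrix (Fin 3) (Fin 3) F)) ?_ ?_ hW0 ?_ (fun v hv => ((he hx) v).1 hv)
  · rw [← Units.val_pow_eq_pow_val, hxr, Units.val_one]
  · intro h8
    exact hx1 (Units.ext (by rw [h8, Units.val_one]))
  · rintro rfl
    rw [finrank_top, finrank_fin_fun] at hW3
    omega

theorem r_dec {p n r : ℕ} (h : Cfsg.Agent.H947.El.PN F p n q r) {M : Subgroup (PSU 3 F q)}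
    {D : Fin 3 → Submodule F (Fin 3 → F)} (hD : IsMDecomposition 1 D) (he : pre M ≤ decompositionStabilizer D) :
    ¬ r ∣ Nat.card M := by
  refine not_dvd_of_pre h.pr fun x hx hxr => ?_
  by_contra hx1
  exact h.no_dec hxr hx1 hD.finrank_eq (he hx)

theorem r_subfield {p n r : ℕ} (h : Cfsg.Agent.H947.El.PN F p n q r) {M : Subgroup (PSU 3 F q)}
    {F₀ : Subfield F} {l : ℕ} (hl : 2 ≤ l) (hc : Fintype.card F = Nat.card F₀ ^ l) {P : GL (Fin 3) F}
    (he : pre M ≤ subfieldSubgroup F₀ P) : ¬ r ∣ Nat.card M := by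
  refine not_dvd_of_pre h.pr fun x hx hxr => ?_
  by_contra hx1
  exact h.no_subfield hxr hx1 hl hc (he hx)

/-- `q` even: a maximal subgroup without elements of order `4` and without elements of order `r` -/
theorem two_even [CharP F 2] (hF : Fintype.card F = q ^ 2) {p n r : ℕ} (h : Cfsg.Agent.H947.El.PN F p n q r)
    {M : Subgroup (PSU 3 F q)} (hr : ¬ r ∣ Nat.card M) (h4 : ∀ g ∈ M, orderOf g ≠ 4) : Two (PSU 3 F q) M := by
  have hfin : Finite (PSU 3 F q) := Quotient.finite _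
  have : Fact (Nat.Prime 2) := ⟨Nat.prime_two⟩
  obtain ⟨R, hR, a, ha, b, hb, hab⟩ := Cfsg.Agent.H794.PsuNotAb.exists_pair (p := 2) (n := 3) hF le_rfl
  obtain ⟨y, hy⟩ := exists_orderOf_four hR ha hb hab
  refine two_of_prime_and h.pr (Cfsg.Agent.H947.El.psu3_orders hF h).1 hr (y := y) ?_ ?_
  · intro hd
    rw [hy] at hd
    have := Nat.le_of_dvd (by norm_num) hd
    have := h.ge
    have := h.n0
    omega
  · intro φ hφ
    exact h4 _ hφ (by rw [Cfsg.Agent.H938.Sax.orderOf_mulEquiv, hy])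

/-- `q` even: a maximal subgroup of odd order -/
theorem two_odd_order [CharP F 2] (hF : Fintype.card F = q ^ 2) {M : Subgroup (PSU 3 F q)} (h2 : ¬ 2 ∣ Nat.card M) :
    Two (PSU 3 F q) M := by
  have hfin : Finite (PSU 3 F q) := Quotient.finite _
  have : Fact (Nat.Prime 2) := ⟨Nat.prime_two⟩
  obtain ⟨R, hR, a, ha, b, hb, hab⟩ := Cfsg.Agent.H794.PsuNotAb.exists_pair (p := 2) (n := 3) hF le_rfl
  obtain ⟨y, hy⟩ := exists_orderOf_four hR ha hb hab
  exact Two.of_not_dvd h2 (not_SC_of_orderOf Nat.prime_two (y := y) (by rw [hy]; norm_num) (by rw [hy]; norm_num))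

/-- `q = 3, 5`: the missing class of elements of order `q` -/
theorem exists_missing_q (hF : Fintype.card F = q ^ 2) (hq : q = 3 ∨ q = 5) [CharP F q] {M : Subgroup (PSU 3 F q)}
    (hM : ¬ q ^ 2 ∣ Nat.card M) : ∃ z : PSU 3 F q, orderOf z = q ∧ ∀ φ : PSU 3 F q ≃* PSU 3 F q, φ z ∉ M := by
  have hfin : Finite (PSU 3 F q) := Quotient.finite _
  have hp : Fact q.Prime := ⟨by rcases hq with rfl | rfl <;> norm_num⟩
  obtain ⟨h3, h4⟩ := Cfsg.Agent.H947.El.psu3_exact hF hq
  obtain ⟨R, hR, a, ha, b, hb, hab⟩ := Cfsg.Agent.H794.PsuNotAb.exists_pair (p := q) (n := 3) hF le_rfl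
  obtain ⟨x, y, hx, hy, hxy⟩ := Cfsg.Agent.H947.El.exists_two_classes (p := q)
    (by rcases hq with rfl | rfl <;> norm_num)
    (Cfsg.Agent.H394.SqPsu3.inf_of_ti (Cfsg.Agent.H394.SqPsu3.ti_psu3 hF)) h3 h4 hR ha hb hab
  exact exists_missing hp.out hM hx hy hxy

/-- `q = 3, 5`: `r` and a class of elements of order `q` are missing -/
theorem two_small (hF : Fintype.card F = q ^ 2) (hq : q = 3 ∨ q = 5) [CharP F q] {p n r : ℕ}
    (h : Cfsg.Agent.H947.El.PN F p n q r) {M : Subgroup (PSU 3 F q)} (hr : ¬ r ∣ Nat.card M)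
    (hM : ¬ q ^ 2 ∣ Nat.card M) : Two (PSU 3 F q) M := by
  have hfin : Finite (PSU 3 F q) := Quotient.finite _
  obtain ⟨z, hz, hzM⟩ := exists_missing_q hF hq hM
  refine two_of_prime_and h.pr (Cfsg.Agent.H947.El.psu3_orders hF h).1 hr (y := z) ?_ hzM
  rw [hz, h.qp]
  intro hd
  exact h.rp (h.pr.dvd_of_dvd_pow hd)

/-- an order and a class of elements of order `q` are missing -/
theorem two_order (hF : Fintype.card F = q ^ 2) (hq : q = 3 ∨ q = 5) [CharP F q] {M : Subgroup (PSU 3 F q)}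
    {k : ℕ} (hk : k ≠ q) {x : PSU 3 F q} (hx : orderOf x = k) (hxM : ∀ g ∈ M, orderOf g ≠ k)
    (hM : ¬ q ^ 2 ∣ Nat.card M) : Two (PSU 3 F q) M := by
  obtain ⟨z, hz, hzM⟩ := exists_missing_q hF hq hM
  refine ⟨x, z, fun φ hφ => hxM _ hφ ?_, hzM, fun φ hφ => hk ?_⟩
  · rw [Cfsg.Agent.H938.Sax.orderOf_mulEquiv, hx]
  · have h1 : orderOf z = orderOf x := by rw [← hφ, Cfsg.Agent.H938.Sax.orderOf_mulEquiv]
    exact hx.symm.trans (h1.symm.trans hz)

end General

theorem row_u33 {F : Type*} [Field F] [Fintype F] (hF : Fintype.card F = 3 ^ 2) : Row (PSU 3 F 3) := by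
  intro M hM
  left
  obtain ⟨p, n, r, h, hchar⟩ := Cfsg.Agent.H947.El.exists_PN hF (by norm_num)
  have hp3 : p = 3 := by
    have h1 : p ∣ 3 := by
      have := h.qp
      rw [this]; exact dvd_pow_self p h.n0.ne'
    exact (Nat.prime_dvd_prime_iff_eq h.pp Nat.prime_three).1 h1
  subst hp3
  have hf3 : Fact (Nat.Prime 3) := ⟨Nat.prime_three⟩
  rcases Cfsg.Agent.S5778.result 3 hF le_rfl (pre M) (pre_max hM) with ⟨W, hW0, hWs, he⟩ | ⟨W, hW0, hWn, hW3, he⟩ |
    ⟨-, D, hD, he⟩ | ⟨h3, -⟩ | ⟨F₀, l, P, hl, hlo, hc, -, he⟩ | ⟨-, h7, -⟩ |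
    ⟨p', R, hp', hqp, -, h11, -⟩ | hres
  · exact borel_two (p := 3) hF le_rfl h hW0 hWs he
  · refine two_small hF (Or.inl rfl) h (r_point h hW0 hW3 (he.trans_le inf_le_left)) fun h9 => ?_
    have := h9.trans (point_card hF hW0 hWn hW3 he)
    revert this; norm_num
  · exact two_small hF (Or.inl rfl) h (r_dec h hD.decomp (he.trans_le inf_le_left))
      (dec_not_sq (p := 3) le_rfl hD.decomp (he.trans_le inf_le_left))
  · exact absurd rfl h3
  · exact (no_odd_root (Or.inl rfl) hl hlo (by rw [← hc, hF]; norm_num)).elim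
  · omega
  · omega
  · obtain ⟨P, hP, hqp, hcases⟩ := Cfsg.Agent.S5779.result 3 hF le_rfl (pre M) (pre_max hM) hres
    rcases hcases with ⟨⟨e⟩, -⟩ | ⟨-, h15⟩ | ⟨-, h5⟩
    · obtain ⟨x, hx⟩ := exists_order_twelve hF
      refine two_order hF (Or.inl rfl) (k := 12) (by norm_num) hx (fun g hg => l32_no_twelve hF hP e hg) fun h9 => ?_
      have := (h9.trans (card_dvd_aut hF hP e)).trans Cfsg.Agent.H907.Mx.card_aut_l32
      revert this; norm_num
    · omega
    · omega

theorem row_u35 {F : Type*} [Field F] [Fintype F] (hF : Fintype.card F = 5 ^ 2) : Row (PSU 3 F 5) := by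
  intro M hM
  left
  obtain ⟨p, n, r, h, hchar⟩ := Cfsg.Agent.H947.El.exists_PN hF (by norm_num)
  have hp5 : p = 5 := by
    have h1 : p ∣ 5 := by
      have := h.qp
      rw [this]; exact dvd_pow_self p h.n0.ne'
    exact (Nat.prime_dvd_prime_iff_eq h.pp (by norm_num)).1 h1
  subst hp5
  have hf5 : Fact (Nat.Prime 5) := ⟨by norm_num⟩
  rcases Cfsg.Agent.S5778.result 5 hF (by norm_num) (pre M) (pre_max hM) with ⟨W, hW0, hWs, he⟩ |
    ⟨W, hW0, hWn, hW3, he⟩ | ⟨h5, -⟩ | ⟨-, h5, -⟩ | ⟨F₀, l, P, hl, hlo, hc, -, he⟩ | ⟨-, h7, -⟩ |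
    ⟨p', R, hp', hqp, -, h11, -⟩ | hres
  · exact borel_two (p := 5) hF (by norm_num) h hW0 hWs he
  · refine two_small hF (Or.inr rfl) h (r_point h hW0 hW3 (he.trans_le inf_le_left)) fun h9 => ?_
    have := h9.trans (point_card hF hW0 hWn hW3 he)
    revert this; norm_num
  · exact absurd rfl h5
  · exact absurd rfl h5
  · exact (no_odd_root (Or.inr (Or.inr rfl)) hl hlo (by rw [← hc, hF]; norm_num)).elim
  · omega
  · omega
  · obtain ⟨P, hP, hqp, hcases⟩ := Cfsg.Agent.S5779.result 5 hF (by norm_num) (pre M) (pre_max hM) hres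
    rcases hcases with ⟨-, h5, -⟩ | ⟨⟨e⟩, -⟩ | ⟨⟨e⟩, -⟩
    · exact absurd rfl h5
    · have hc := card_dvd_aut hF hP e
      rw [Cfsg.Agent.H824.ProdLem.card_aut_a6] at hc
      refine two_small hF (Or.inr rfl) h (fun hr => ?_) fun h9 => ?_
      · have h2 : r ∣ 2 ^ 5 * 3 ^ 2 * 5 := by norm_num; exact hr.trans hc
        have := h.ge
        have := h.n0
        rcases h.pr.dvd_mul.1 h2 with h3 | h3
        · rcases h.pr.dvd_mul.1 h3 with h4 | h4
          · have := Nat.le_of_dvd (by norm_num) (h.pr.dvd_of_dvd_pow h4); omega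
          · have := Nat.le_of_dvd (by norm_num) (h.pr.dvd_of_dvd_pow h4); omega
        · have := Nat.le_of_dvd (by norm_num) h3; omega
      · have := h9.trans hc
        revert this; norm_num
    · obtain ⟨x, hx⟩ := exists_order_eight hF
      refine two_order hF (Or.inr rfl) (k := 8) (by norm_num) hx (fun g hg => a7_no_eight hF hP e hg) fun h9 => ?_
      have := (h9.trans (card_dvd_aut hF hP e)).trans Cfsg.Agent.H947.El.card_aut_a7
      revert this; norm_num

theorem char_two_of_pow {F : Type*} [Field F] [Fintype F] {p n k : ℕ} (hp : p.Prime) (hn : 0 < n) (h : 2 ^ k = p ^ n) :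
    p = 2 := by
  have h1 : p ∣ 2 ^ k := by rw [h]; exact dvd_pow_self p hn.ne'
  exact (Nat.prime_dvd_prime_iff_eq hp Nat.prime_two).1 (hp.dvd_of_dvd_pow h1)

theorem row_u34 {F : Type*} [Field F] [Fintype F] (hF : Fintype.card F = 4 ^ 2) : Row (PSU 3 F 4) := by
  intro M hM
  left
  obtain ⟨p, n, r, h, hchar⟩ := Cfsg.Agent.H947.El.exists_PN hF (by norm_num)
  have hp2 : p = 2 := char_two_of_pow (F := F) h.pp h.n0 (k := 2) h.qp
  subst hp2
  have hf2 : Fact (Nat.Prime 2) := ⟨Nat.prime_two⟩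
  rcases Cfsg.Agent.S5778.result 4 hF (by norm_num) (pre M) (pre_max hM) with ⟨W, hW0, hWs, he⟩ |
    ⟨W, hW0, hWn, hW3, he⟩ | ⟨-, D, hD, he⟩ | ⟨-, -, K, hK, -, he⟩ | ⟨F₀, l, P, hl, hlo, hc, -, he⟩ |
    ⟨hodd, -⟩ | ⟨p', R, hp', hqp, -, h11, -⟩ | hres
  · exact borel_two (p := 2) hF (by norm_num) h hW0 hWs he
  · exact two_even hF h (r_point h hW0 hW3 (he.trans_le inf_le_left)) fun g hg => point_no_four hF hW0 hWn hW3 he hg
  · exact two_even hF h (r_dec h hD.decomp (he.trans_le inf_le_left))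
      fun g hg => dec_no_four hF hD.decomp (he.trans_le inf_le_left) hg
  · exact two_odd_order hF (field_odd hK (he.trans_le inf_le_left))
  · exact (no_odd_root (Or.inr (Or.inl rfl)) hl hlo (by rw [← hc, hF]; norm_num)).elim
  · exact absurd hodd (by decide)
  · omega
  · obtain ⟨P, hP, hqp, -⟩ := Cfsg.Agent.S5779.result 4 hF (by norm_num) (pre M) (pre_max hM) hres
    exact absurd hqp (by norm_num)

theorem row_u38 {F : Type*} [Field F] [Fintype F] (hF : Fintype.card F = 8 ^ 2) : Row (PSU 3 F 8) := by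
  intro M hM
  left
  have hfin : Finite (PSU 3 F 8) := Quotient.finite _
  obtain ⟨p, n, r, h, hchar⟩ := Cfsg.Agent.H947.El.exists_PN hF (by norm_num)
  have hp2 : p = 2 := char_two_of_pow (F := F) h.pp h.n0 (k := 3) h.qp
  subst hp2
  have hf2 : Fact (Nat.Prime 2) := ⟨Nat.prime_two⟩
  rcases Cfsg.Agent.S5778.result 8 hF (by norm_num) (pre M) (pre_max hM) with ⟨W, hW0, hWs, he⟩ |
    ⟨W, hW0, hWn, hW3, he⟩ | ⟨-, D, hD, he⟩ | ⟨-, -, K, hK, -, he⟩ | ⟨F₀, l, P, hl, hlo, hc, -, he⟩ |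
    ⟨hodd, -⟩ | ⟨p', R, hp', hqp, -, h11, -⟩ | hres
  · exact borel_two (p := 2) hF (by norm_num) h hW0 hWs he
  · exact two_even hF h (r_point h hW0 hW3 (he.trans_le inf_le_left)) fun g hg => point_no_four hF hW0 hWn hW3 he hg
  · exact two_even hF h (r_dec h hD.decomp (he.trans_le inf_le_left))
      fun g hg => dec_no_four hF hD.decomp (he.trans_le inf_le_left) hg
  · exact two_odd_order hF (field_odd hK (he.trans_le inf_le_left))
  · have h0 : Nat.card F₀ = 4 := root_64 hl hlo (by rw [← hc, hF])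
    have h7 := subfield_no_seven hF h0 (he.trans_le inf_le_left)
    have hr := r_subfield h hl.two_le hc (he.trans_le inf_le_left)
    have hn3 : n = 3 := by
      have h1 : 2 ^ 3 = 2 ^ n := h.qp
      exact (Nat.pow_right_injective le_rfl h1).symm
    refine Two.of_two_primes (v := r) (w := 7) h.pr (by norm_num) ?_ (Cfsg.Agent.H947.El.psu3_orders hF h).1 ?_ hr h7
    · intro h1
      have := h.ge
      omega
    · have hcard := Cfsg.Agent.H394.SqPsu3.card_psu3 hF
      norm_num at hcard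
      have h1 : Nat.card (PSU 3 F 8) = 5515776 := by omega
      rw [h1]; norm_num
  · exact absurd hodd (by decide)
  · omega
  · obtain ⟨P, hP, hqp, -⟩ := Cfsg.Agent.S5779.result 8 hF (by norm_num) (pre M) (pre_max hM) hres
    exact absurd hqp (by norm_num)

end Cfsg.Agent.H322.Der
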